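import Groth.Agent.L10.Spectral.ConsGodement
import Groth.Agent.L21.RR.TopVanish
import Mathlib.Topology.Spectral.ConstructibleTopology
import Mathlib.Topology.KrullDimension

/-!
Cohomology of abelian sheaves on spectral spaces vanishes above the dimension.
-/

set_option autoImplicit false
set_option linter.style.haveILetI false
set_option backward.defeqAttrib.useBackward true
set_option backward.isDefEq.respectTransparency false
universe u

open CategoryTheory CategoryTheory.Limits CategoryTheory.Abelian Opposite TopologicalSpace Topology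

noncomputable section

namespace Groth.L10.Spectral

open Groth.L21.RR.Top (stF)
open Groth.L10.SiteCoh (fs fsMap)

variable {X : TopCat.{u}}

/-- There is a chain of proper generalizations of length `k` ending at the point. -/
def HtGE : ℕ → X → Prop
  | 0, _ => True
  | k + 1, x => ∃ y, y ⤳ x ∧ y ≠ x ∧ HtGE k y

/-- The closure of a point. -/
def clPt (x : X) : IrreducibleCloseds X := ⟨closure {x}, isIrreducible_singleton.closure, isClosed_closure⟩

theorem exists_series [T0Space X] : ∀ (k : ℕ) (x : X), HtGE k x →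
    ∃ p : LTSeries (IrreducibleCloseds X), p.length = k ∧ p.head = clPt x
  | 0, x, _ => ⟨RelSeries.singleton _ (clPt x), rfl, rfl⟩
  | k + 1, x, ⟨y, hyx, hne, hy⟩ => by
    obtain ⟨p, hp, hph⟩ := exists_series k y hy
    have hr : clPt x < p.head := by
      rw [hph]
      refine lt_of_le_of_ne (specializes_iff_closure_subset.1 hyx : closure {x} ⊆ closure {y}) fun e => hne ?_
      have e' : closure ({x} : Set X) = closure {y} := congrArg IrreducibleCloseds.carrier e
      exact (hyx.antisymm (specializes_iff_closure_subset.2 e'.symm.subset)).eq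
    refine ⟨p.cons (clPt x) hr, ?_, RelSeries.head_cons _ _ _⟩
    simp only [RelSeries.cons_length, hp, zero_add, add_comm]

theorem not_htGE_of_dim_le [T0Space X] {d : ℕ} (hd : topologicalKrullDim X ≤ d) (x : X) : ¬ HtGE (d + 1) x := by
  intro h
  obtain ⟨p, hp, -⟩ := exists_series (d + 1) x h
  have h1 : ((d + 1 : ℕ) : WithBot ℕ∞) ≤ (d : WithBot ℕ∞) := hp ▸ (Order.LTSeries.length_le_krullDim p).trans hd
  norm_cast at h1
  omega

/-- The stalks of the sheaf vanish outside the points of height at least `k`. -/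
def Supp (k : ℕ) (F : CohTop.Ab X) : Prop := ∀ x : X, ¬ HtGE k x → Subsingleton ((stF x).obj F)

variable [SpectralSpace X] (F : CohTop.Ab X)

theorem compactSpace_constructible : @CompactSpace X (constructibleTopology X) :=
  @Function.Surjective.compactSpace _ _ _ (constructibleTopology X) _
    (WithTopology.continuous_ofTopology (constructibleTopology X)) _
    (WithTopology.ofTopology_surjective _)

/-- A family vanishing at all generalizations of a point has zero germ there. -/
theorem germ_cons_eq_zero {x : X} {U : Opens X} (hx : x ∈ U) (g : (cons F).obj.obj (op U))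
    (h : ∀ y, y ∈ U → y ⤳ x → val F U y g = 0) :
    TopCat.Presheaf.germ (cons F).obj U x hx g = 0 := by
  obtain ⟨A, hA, hAU, hxA⟩ := exists_compact hx
  let Z : Set X := {y | y ∈ A ∧ val F U y g ≠ 0}
  have hcl : @IsClosed X (constructibleTopology X) Z := by
    rw [← @isOpen_compl_iff]
    refine (@isOpen_iff_forall_mem_open X (constructibleTopology X) _).2 fun y hy => ?_
    by_cases hyA : y ∈ A
    · have hy0 : val F U y g = 0 := by
        by_contra hne
        exact hy ⟨hyA, hne⟩
      obtain ⟨P, Q, hP, hQ, hPU, hyP, hyQ, s, hs⟩ := (show consSub F U from g).2.2 y (hAU hyA)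
      have hgy : TopCat.Presheaf.germ F.obj P y hyP s = TopCat.Presheaf.germ F.obj P y hyP 0 := by
        rw [map_zero, ← hy0]
        exact (hs y hyP hyQ).symm
      obtain ⟨O, hyO, i₁, i₂, he⟩ := TopCat.Presheaf.germ_eq F.obj y hyP hyP _ _ hgy
      obtain ⟨O', hO', hle, hyO'⟩ := exists_compact hyO
      refine ⟨(O' : Set X) ∩ (Q : Set X)ᶜ, fun z hz hzZ => hzZ.2 ?_, ?_, hyO', hyQ⟩
      · rw [map_zero] at he
        refine (hs z (i₁.le (hle hz.1)) hz.2).trans ?_
        rw [← TopCat.Presheaf.germ_res_apply F.obj i₁ z (hle hz.1) s, he, map_zero]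
      · exact @IsOpen.inter X (constructibleTopology X) _ _ (hO'.isOpen_constructibleTopology_of_isOpen O'.isOpen)
          (IsCompact.isOpen_constructibleTopology_of_isClosed (by rwa [compl_compl]) Q.isOpen.isClosed_compl)
    · exact ⟨(A : Set X)ᶜ, fun z hz hzZ => hz hzZ.1,
        IsCompact.isOpen_constructibleTopology_of_isClosed (by rwa [compl_compl]) A.isOpen.isClosed_compl, hyA⟩
  have hZc : @IsCompact X (constructibleTopology X) Z :=
    @IsClosed.isCompact X (constructibleTopology X) _ compactSpace_constructible hcl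
  have hsep : ∀ y : Z, ∃ O : Opens X, IsCompact (O : Set X) ∧ x ∈ O ∧ y.1 ∉ O := fun y => by
    have hns : ¬ y.1 ⤳ x := fun hs => y.2.2 (h _ (hAU y.2.1) hs)
    rw [specializes_iff_forall_open] at hns
    push Not at hns
    obtain ⟨O, hO, hxO, hyO⟩ := hns
    obtain ⟨O', hO', hle, hxO'⟩ := exists_compact (U := ⟨O, hO⟩) hxO
    exact ⟨O', hO', hxO', fun h => hyO (hle h)⟩
  choose O hO hxO hyO using hsep
  obtain ⟨t, ht⟩ := @IsCompact.elim_finite_subcover X (constructibleTopology X) _ _ hZc (fun y => (O y : Set X)ᶜ)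
    (fun y => IsCompact.isOpen_constructibleTopology_of_isClosed (by rw [compl_compl]; exact hO y)
      (O y).isOpen.isClosed_compl)
    (fun y hy => Set.mem_iUnion.2 ⟨⟨y, hy⟩, hyO ⟨y, hy⟩⟩)
  let W : Opens X := A ⊓ ⟨⋂ y ∈ t, (O y : Set X), isOpen_biInter_finset fun y _ => (O y).isOpen⟩
  have hxW : x ∈ W := ⟨hxA, Set.mem_iInter₂.2 fun y _ => hxO y⟩
  rw [← TopCat.Presheaf.germ_res_apply (cons F).obj (homOfLE (inf_le_left.trans hAU) : W ⟶ U) x hxW g,
    show (cons F).obj.map (homOfLE (inf_le_left.trans hAU) : W ⟶ U).op g = 0 from val_ext F fun z hz => ?_, map_zero]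
  rw [map_zero]
  refine (val_map F _ _ hz).trans ?_
  by_contra hne
  obtain ⟨y, hy, hzy⟩ := Set.mem_iUnion₂.1 (ht (show z ∈ Z from ⟨hz.1, hne⟩))
  exact hzy (Set.mem_iInter₂.1 hz.2 y hy)

theorem mono_toCons : Mono (toCons F) := by
  have : Mono ((sheafToPresheaf _ AddCommGrpCat.{u}).map (toCons F)) := by
    refine (NatTrans.mono_iff_mono_app _).2 fun U => (AddCommGrpCat.mono_iff_injective _).2 fun a b hab => ?_
    refine TopCat.Presheaf.section_ext F U.unop a b fun x hx => ?_
    have h := congrArg (val F U.unop x) hab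
    erw [val_toCons F hx, val_toCons F hx] at h
    exact h
  exact (sheafToPresheaf _ AddCommGrpCat.{u}).mono_of_mono_map this

theorem epi_stF_toCons {x : X} (hx : ∀ y, y ⤳ x → y ≠ x → Subsingleton ((stF y).obj F)) :
    Epi ((stF x).map (toCons F)) := by
  refine (AddCommGrpCat.epi_iff_surjective _).2 fun w => ?_
  obtain ⟨U, hxU, g, rfl⟩ := TopCat.Presheaf.exists_germ_eq (cons F).obj w
  obtain ⟨V, hxV, s, hs⟩ := TopCat.Presheaf.exists_germ_eq F.obj (val F U x g)
  let s' : F.obj.obj (op (U ⊓ V)) := F.obj.map (homOfLE inf_le_right).op s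
  let g' : (cons F).obj.obj (op (U ⊓ V)) := (cons F).obj.map (homOfLE inf_le_left).op g
  refine ⟨TopCat.Presheaf.germ F.obj (U ⊓ V) x ⟨hxU, hxV⟩ s', ?_⟩
  refine (TopCat.Presheaf.stalkFunctor_map_germ_apply (U ⊓ V) x _ (toCons F).hom s').trans ?_
  rw [← TopCat.Presheaf.germ_res_apply (cons F).obj (homOfLE inf_le_left : U ⊓ V ⟶ U) x ⟨hxU, hxV⟩ g, ← sub_eq_zero]
  refine (map_sub (TopCat.Presheaf.germ (cons F).obj (U ⊓ V) x _).hom _ g').symm.trans
    (germ_cons_eq_zero F _ _ fun y hy hyx => ?_)
  refine (map_sub (val F (U ⊓ V) y) _ g').trans (sub_eq_zero.2 ?_)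
  by_cases hyx' : y = x
  · subst hyx'
    erw [val_toCons F hy, val_map F (homOfLE inf_le_left) g hy]
    rw [TopCat.Presheaf.germ_res_apply F.obj (homOfLE inf_le_right) y hy s]
    exact hs
  · exact (hx y hyx hyx').elim _ _

theorem supp_cokernel {k : ℕ} (hF : Supp k F) : Supp (k + 1) (cokernel (toCons F)) := fun x hx => by
  refine AddCommGrpCat.subsingleton_of_isZero (?_ : IsZero ((stF x).obj (cokernel (toCons F))))
  haveI := epi_stF_toCons F fun y hyx hne => hF y fun hy => hx ⟨y, hyx, hne, hy⟩
  refine IsZero.of_epi_eq_zero ((stF x).map (cokernel.π (toCons F))) (zero_of_epi_comp ((stF x).map (toCons F)) ?_)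
  rw [← Functor.map_comp, cokernel.condition, Functor.map_zero]

omit [SpectralSpace X] in
theorem isZero_of_stalks (h : ∀ x : X, Subsingleton ((stF x).obj F)) : IsZero F := by
  rw [IsZero.iff_id_eq_zero]
  refine Sheaf.hom_ext (NatTrans.ext (funext fun U => AddCommGrpCat.hom_ext (AddMonoidHom.ext fun s => ?_)))
  exact TopCat.Presheaf.section_ext F U.unop _ _ fun x _ => (h x).elim _ _

theorem isZero_cokernel_of_dim {d : ℕ} (hd : topologicalKrullDim X ≤ d) (hF : Supp d F) :
    IsZero (cokernel (toCons F)) :=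
  isZero_of_stalks _ fun x => supp_cokernel F hF x (not_htGE_of_dim_le hd x)

local notation "JX" => Opens.grothendieckTopology X

/-- The short exact sequence. -/
abbrev consSeq : ShortComplex (CohTop.Ab X) :=
  ShortComplex.mk (toCons F) (cokernel.π _) (cokernel.condition _)

theorem consSeq_shortExact : (consSeq F).ShortExact :=
  haveI := mono_toCons F
  { exact := ShortComplex.exact_cokernel _ }

theorem vanishing_and_surjective {d : ℕ} (hd : topologicalKrullDim X ≤ d) :
    ∀ (m k : ℕ), k + m = d + 1 → ∀ F : CohTop.Ab X, Supp k F →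
      (∀ n : ℕ, d < n + 1 + k → ∀ U : Opens X, IsCompact (U : Set X) →
        Subsingleton (Ext (fs JX U) F (n + 1))) ∧
      (∀ n : ℕ, n + k = d → ∀ U : Opens X, IsCompact (U : Set X) →
        Function.Surjective fun x : Ext (fs JX ⊤) F n =>
          (Ext.mk₀ (fsMap JX (homOfLE (le_top : U ≤ ⊤)))).comp x (zero_add n)) := by
  intro m
  induction m with
  | zero =>
    intro k hk F hF
    have hz : IsZero F := isZero_of_stalks F fun x => hF x fun h => not_htGE_of_dim_le hd x (by
      rw [Nat.add_zero] at hk; exact hk ▸ h)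
    refine ⟨fun n _ U _ => subsingleton_of_forall_eq 0 fun x => ?_, fun n hn => absurd hn (by omega)⟩
    rw [← Ext.comp_mk₀_id x, hz.eq_of_src (𝟙 F) 0, Ext.mk₀_zero, Ext.comp_zero]
  | succ m ih =>
    intro k hk F hF
    have hS := consSeq_shortExact F
    obtain ⟨ihV, ihS⟩ := ih (k + 1) (by omega) (consSeq F).X₃ (supp_cokernel F hF)
    have hlift : ∀ (n : ℕ) (U : Opens X), IsCompact (U : Set X) → ∀ x : Ext (fs JX U) F (n + 1),
        ∃ y : Ext (fs JX U) (consSeq F).X₃ n, y.comp hS.extClass rfl = x := fun n U hU x =>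
      Ext.covariant_sequence_exact₁ _ hS x ((subsingleton_ext_cons F U hU n).elim _ _) rfl
    refine ⟨fun n hn U hU => subsingleton_of_forall_eq 0 fun x => ?_, fun n hn U hU => ?_⟩
    · obtain ⟨y, rfl⟩ := hlift n U hU x
      cases n with
      | zero =>
        have hz := isZero_cokernel_of_dim F hd (show Supp d F from (show k = d by omega) ▸ hF)
        obtain ⟨g, rfl⟩ := (Ext.mk₀_bijective _ _).2 y
        rw [hz.eq_of_tgt g 0, Ext.mk₀_zero, Ext.zero_comp]
      | succ n =>
        rw [(ihV n (by omega) U hU).elim y 0, Ext.zero_comp]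
    · intro x
      cases n with
      | zero =>
        have hz := isZero_cokernel_of_dim F hd (show Supp d F from (show k = d by omega) ▸ hF)
        haveI := mono_toCons F
        haveI : Epi (toCons F) := Abelian.epi_of_cokernel_π_eq_zero _ (hz.eq_of_tgt _ _)
        haveI : IsIso (toCons F) := isIso_of_mono_of_epi _
        obtain ⟨s, hs⟩ := surjective_cons_map F (le_top : U ≤ ⊤) hU ((toCons F).hom.app (op U) (SiteCoh.hu0 F U x))
        refine ⟨(SiteCoh.hu0 F ⊤).symm ((inv (toCons F)).hom.app (op ⊤) s), (SiteCoh.hu0 F U).injective ?_⟩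
        rw [SiteCoh.hu0_map, AddEquiv.apply_symm_apply, ← NatTrans.naturality_apply, hs,
          ← ConcreteCategory.comp_apply]
        exact congr($(IsIso.hom_inv_id (toCons F)).hom.app (op U) (SiteCoh.hu0 F U x))
      | succ n =>
        obtain ⟨y, rfl⟩ := hlift n U hU x
        obtain ⟨z, rfl⟩ := ihS n (by omega) U hU y
        exact ⟨z.comp hS.extClass rfl, (Ext.comp_assoc _ _ _ (zero_add n) rfl (by omega)).symm⟩

omit [SpectralSpace X] in
theorem supp_zero : Supp 0 F := fun _ h => absurd trivial h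

/-- Vanishing on compact opens. -/
theorem subsingleton_HU {d : ℕ} (hd : topologicalKrullDim X ≤ d) (n : ℕ) (hn : d < n + 1) (U : Opens X)
    (hU : IsCompact (U : Set X)) : Subsingleton (Ext (fs JX U) F (n + 1)) :=
  ((vanishing_and_surjective hd (d + 1) 0 (zero_add _) F (supp_zero F)).1 n (by omega) U hU)

/-- Vanishing. -/
theorem subsingleton_H {d : ℕ} (hd : topologicalKrullDim X ≤ d) (n : ℕ) (hn : d < n) :
    Subsingleton (CohTop.H F n) := by
  obtain ⟨n, rfl⟩ := Nat.exists_eq_add_one.2 (Nat.lt_of_le_of_lt (Nat.zero_le _) hn)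
  haveI := subsingleton_HU F hd n hn ⊤ (by rw [Opens.coe_top]; exact isCompact_univ)
  exact (SiteCoh.hEquiv (TopCoh.topTerminal X) F (n + 1)).toEquiv.subsingleton

/-- In the top degree restriction to compact opens is surjective. -/
theorem surjective_res {d : ℕ} (hd : topologicalKrullDim X ≤ d) (U : Opens X) (hU : IsCompact (U : Set X)) :
    Function.Surjective (CohTop.res F d (le_top : U ≤ ⊤)) := fun x => by
  obtain ⟨y, hy⟩ := (vanishing_and_surjective hd (d + 1) 0 (zero_add _) F (supp_zero F)).2 d (add_zero _) U hU x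
  exact ⟨y, hy⟩

end Groth.L10.Spectral
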