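import Groth.Agent.L10.CechNerves
import Groth.Agent.L10.TopCoh
import Mathlib.Topology.Spectral.Prespectral
import Mathlib.Topology.QuasiSeparated
import Mathlib.Topology.Sheaves.SheafCondition.UniqueGluing

/-!
The sheaf of families of germs which are given by sections locally for the constructible topology.
It has no higher cohomology on compact opens.
-/

set_option autoImplicit false
set_option linter.style.haveILetI false
set_option backward.defeqAttrib.useBackward true
set_option backward.isDefEq.respectTransparency false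
universe u

open CategoryTheory CategoryTheory.Limits CategoryTheory.Abelian Opposite TopologicalSpace

noncomputable section

namespace Groth.L10.Spectral

open scoped Classical

variable {X : TopCat.{u}}

section Compact

variable [QuasiSeparatedSpace X]

omit [QuasiSeparatedSpace X] in
theorem isCompact_sup {A B : Opens X} (hA : IsCompact (A : Set X)) (hB : IsCompact (B : Set X)) :
    IsCompact ((A ⊔ B : Opens X) : Set X) := by
  rw [Opens.coe_sup]
  exact hA.union hB

omit [QuasiSeparatedSpace X] in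
theorem isCompact_finset_sup {ι : Type*} (t : Finset ι) (V : ι → Opens X) (h : ∀ i ∈ t, IsCompact (V i : Set X)) :
    IsCompact ((t.sup V : Opens X) : Set X) := by
  induction t using Finset.induction_on with
  | empty => rw [Finset.sup_empty, Opens.coe_bot]; exact isCompact_empty
  | insert a s _ ih =>
    rw [Finset.sup_insert]
    exact isCompact_sup (h a (Finset.mem_insert_self _ _)) (ih fun i hi => h i (Finset.mem_insert_of_mem hi))

theorem isCompact_inf {A B : Opens X} (hA : IsCompact (A : Set X)) (hB : IsCompact (B : Set X)) :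
    IsCompact ((A ⊓ B : Opens X) : Set X) := by
  rw [Opens.coe_inf]
  exact QuasiSeparatedSpace.inter_isCompact _ _ A.isOpen hA B.isOpen hB

theorem isCompact_iInf_fin : ∀ {n : ℕ} (V : Fin (n + 1) → Opens X), (∀ k, IsCompact (V k : Set X)) →
    IsCompact ((⨅ k, V k : Opens X) : Set X) := by
  intro n
  induction n with
  | zero =>
    intro V h
    rw [show (⨅ k, V k) = V 0 from le_antisymm (iInf_le _ _)
      (le_iInf fun k => Fin.cases le_rfl (fun j => j.elim0) k)]
    exact h 0
  | succ n ih =>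
    intro V h
    rw [show (⨅ k, V k) = V 0 ⊓ ⨅ k : Fin (n + 1), V k.succ from
      le_antisymm (le_inf (iInf_le _ _) (le_iInf fun k => iInf_le _ _))
        (le_iInf (Fin.cases inf_le_left fun k => inf_le_of_right_le (iInf_le _ k)))]
    exact isCompact_inf (h 0) (ih _ fun k => h _)

end Compact

theorem mem_tup_iff {ι : Type u} (V : ι → Opens X) {n : ℕ} (a : Fin (n + 1) → ι) (x : X) :
    x ∈ Cech.tup V a ↔ ∀ k, x ∈ V (a k) := by
  refine ⟨fun h k => (Pi.π (V ∘ a) k).le h, fun h => ?_⟩
  let W : Opens X := ⟨⋂ k, (V (a k) : Set X), isOpen_iInter_of_finite fun k => (V (a k)).isOpen⟩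
  exact (Pi.lift (f := V ∘ a) fun k => homOfLE (show W ≤ V (a k) from Set.iInter_subset _ k)).le
    (show x ∈ W from Set.mem_iInter.2 h)

variable (F : CohTop.Ab X)

/-- Families of germs given by sections locally on differences of compact opens. -/
def IsPiece (U : Opens X) (g : ∀ x : X, CohTop.stalk F x) : Prop :=
  ∀ x ∈ U, ∃ A B : Opens X, IsCompact (A : Set X) ∧ IsCompact (B : Set X) ∧ A ≤ U ∧ x ∈ A ∧ x ∉ B ∧
    ∃ s : F.obj.obj (op A), ∀ y (hy : y ∈ A), y ∉ B → g y = TopCat.Presheaf.germ F.obj A y hy s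

section

variable [PrespectralSpace X]

theorem exists_compact {U : Opens X} {x : X} (hx : x ∈ U) :
    ∃ A : Opens X, IsCompact (A : Set X) ∧ A ≤ U ∧ x ∈ A := by
  obtain ⟨V, hV, hxV, hVU⟩ := PrespectralSpace.isTopologicalBasis.exists_subset_of_mem_open hx U.isOpen
  exact ⟨⟨V, hV.1⟩, hV.2, hVU, hxV⟩

variable [QuasiSeparatedSpace X]

/-- The group of such families on `U`. -/
def consSub (U : Opens X) : AddSubgroup (∀ x : X, CohTop.stalk F x) where
  carrier := {g | (∀ x, x ∉ U → g x = 0) ∧ IsPiece F U g}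
  zero_mem' := ⟨fun _ _ => rfl, fun x hx => by
    obtain ⟨A, hA, hAU, hxA⟩ := exists_compact hx
    exact ⟨A, ⊥, hA, isCompact_empty, hAU, hxA, id, 0, fun y hy _ => (map_zero _).symm⟩⟩
  add_mem' := fun {g g'} hg hg' => ⟨fun x hx => by simp [hg.1 x hx, hg'.1 x hx], fun x hx => by
    obtain ⟨A, B, hA, hB, hAU, hxA, hxB, s, hs⟩ := hg.2 x hx
    obtain ⟨A', B', hA', hB', -, hxA', hxB', s', hs'⟩ := hg'.2 x hx
    refine ⟨A ⊓ A', B ⊔ B', isCompact_inf hA hA', isCompact_sup hB hB', inf_le_left.trans hAU, ⟨hxA, hxA'⟩,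
      fun h => h.elim hxB hxB', F.obj.map (homOfLE inf_le_left).op s + F.obj.map (homOfLE inf_le_right).op s',
      fun y hy hyB => ?_⟩
    rw [map_add, TopCat.Presheaf.germ_res_apply F.obj (homOfLE inf_le_left) y hy s,
      TopCat.Presheaf.germ_res_apply F.obj (homOfLE inf_le_right) y hy s', Pi.add_apply,
      hs y hy.1 fun h => hyB (Or.inl h), hs' y hy.2 fun h => hyB (Or.inr h)]⟩
  neg_mem' := fun {g} hg => ⟨fun x hx => by simp [hg.1 x hx], fun x hx => by
    obtain ⟨A, B, hA, hB, hAU, hxA, hxB, s, hs⟩ := hg.2 x hx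
    exact ⟨A, B, hA, hB, hAU, hxA, hxB, -s, fun y hy hyB => by
      rw [Pi.neg_apply, hs y hy hyB]; exact (map_neg _ _).symm⟩⟩

/-- Restriction of families. -/
def consRes {U V : Opens X} (h : V ≤ U) : consSub F U →+ consSub F V where
  toFun g := ⟨fun x => if x ∈ V then g.1 x else 0, fun _ hx => if_neg hx, fun x hx => by
    obtain ⟨A, B, hA, hB, -, hxA, hxB, s, hs⟩ := g.2.2 x (h hx)
    obtain ⟨A', hA', hle, hxA'⟩ := exists_compact (show x ∈ A ⊓ V from ⟨hxA, hx⟩)
    refine ⟨A', B, hA', hB, hle.trans inf_le_right, hxA', hxB, F.obj.map (homOfLE (hle.trans inf_le_left)).op s,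
      fun y hy hyB => ?_⟩
    rw [TopCat.Presheaf.germ_res_apply F.obj (homOfLE (hle.trans inf_le_left)) y hy s]
    exact (if_pos (hle hy).2).trans (hs y (hle hy).1 hyB)⟩
  map_zero' := by ext x; simp
  map_add' g g' := by
    refine Subtype.ext (funext fun x => ?_)
    show (if x ∈ V then (g.1 x + g'.1 x) else 0) = (if x ∈ V then g.1 x else 0) + (if x ∈ V then g'.1 x else 0)
    split_ifs <;> simp

theorem consRes_apply {U V : Opens X} (h : V ≤ U) (g : consSub F U) {x : X} (hx : x ∈ V) :
    (consRes F h g).1 x = g.1 x := if_pos hx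

/-- The presheaf of such families. -/
def consPre : TopCat.Presheaf AddCommGrpCat.{u} X where
  obj U := AddCommGrpCat.of (consSub F U.unop)
  map {U V} i := AddCommGrpCat.ofHom (consRes F i.unop.le)
  map_id U := by
    ext g x
    show (if x ∈ U.unop then (g : consSub F U.unop).1 x else 0) = (g : consSub F U.unop).1 x
    split_ifs with h
    · rfl
    · exact ((g : consSub F U.unop).2.1 x h).symm
  map_comp {U V W} i j := by
    ext g x
    show (if x ∈ W.unop then (g : consSub F U.unop).1 x else 0) =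
      if x ∈ W.unop then (if x ∈ V.unop then (g : consSub F U.unop).1 x else 0) else 0
    split_ifs with h h'
    · rfl
    · exact absurd (j.unop.le h) h'
    · rfl

/-- The value of a section at a point. -/
def val (U : Opens X) (x : X) : (consPre F).obj (op U) →+ CohTop.stalk F x :=
  (Pi.evalAddMonoidHom (fun x : X => (CohTop.stalk F x : Type u)) x).comp (consSub F U).subtype

theorem val_map {U V : Opens X} (i : V ⟶ U) (g : (consPre F).obj (op U)) {x : X} (hx : x ∈ V) :
    val F V x ((consPre F).map i.op g) = val F U x g :=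
  if_pos hx

theorem val_ext {U : Opens X} {g g' : (consPre F).obj (op U)} (h : ∀ x ∈ U, val F U x g = val F U x g') :
    g = g' :=
  Subtype.ext (funext fun x => by
    by_cases hx : x ∈ U
    · exact h x hx
    · exact ((show consSub F U from g).2.1 x hx).trans ((show consSub F U from g').2.1 x hx).symm)

theorem isSheaf_consPre : TopCat.Presheaf.IsSheaf (consPre F) := by
  rw [TopCat.Presheaf.isSheaf_iff_isSheafUniqueGluing]
  intro ι U sf hsf
  have hag : ∀ (i j : ι) (x : X), x ∈ U i → x ∈ U j → val F (U i) x (sf i) = val F (U j) x (sf j) := by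
    intro i j x hi hj
    have h := congrArg (val F (U i ⊓ U j) x) (hsf i j)
    rwa [val_map F _ _ (show x ∈ U i ⊓ U j from ⟨hi, hj⟩), val_map F _ _ (show x ∈ U i ⊓ U j from ⟨hi, hj⟩)] at h
  let g : ∀ x : X, CohTop.stalk F x := fun x =>
    if h : ∃ i, x ∈ U i then val F (U h.choose) x (sf h.choose) else 0
  have hg : ∀ (i : ι) (x : X), x ∈ U i → g x = val F (U i) x (sf i) := fun i x hx => by
    have h : ∃ j, x ∈ U j := ⟨i, hx⟩
    simp only [g, dif_pos h]
    exact hag _ _ x h.choose_spec hx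
  have hmem : g ∈ consSub F (iSup U) := by
    refine ⟨fun x hx => dif_neg fun ⟨i, hi⟩ => hx (Opens.mem_iSup.2 ⟨i, hi⟩), fun x hx => ?_⟩
    obtain ⟨i, hi⟩ := Opens.mem_iSup.1 hx
    obtain ⟨A, B, hA, hB, hAU, hxA, hxB, s, hs⟩ := (show consSub F (U i) from sf i).2.2 x hi
    exact ⟨A, B, hA, hB, hAU.trans (le_iSup U i), hxA, hxB, s, fun y hy hyB =>
      (hg i y (hAU hy)).trans (hs y hy hyB)⟩
  refine ⟨(⟨g, hmem⟩ : consSub F (iSup U)), fun i => val_ext F fun x hx => (val_map F _ _ hx).trans (hg i x hx),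
    fun g' hg' => val_ext F fun x hx => ?_⟩
  obtain ⟨i, hi⟩ := Opens.mem_iSup.1 hx
  have h := congrArg (val F (U i) x) (hg' i)
  rw [val_map F _ _ hi] at h
  exact h.trans (hg i x hi).symm

/-- The sheaf of families of germs which are constructibly locally sections. -/
def cons : CohTop.Ab X := ⟨consPre F, isSheaf_consPre F⟩

/-- The germs of a section. -/
def toConsFun (U : Opens X) (s : F.obj.obj (op U)) : ∀ x : X, CohTop.stalk F x := fun x =>
  if h : x ∈ U then TopCat.Presheaf.germ F.obj U x h s else 0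

theorem toConsFun_mem (U : Opens X) (s : F.obj.obj (op U)) : toConsFun F U s ∈ consSub F U := by
  refine ⟨fun x hx => dif_neg hx, fun x hx => ?_⟩
  obtain ⟨A, hA, hAU, hxA⟩ := exists_compact hx
  refine ⟨A, ⊥, hA, isCompact_empty, hAU, hxA, id, F.obj.map (homOfLE hAU).op s, fun y hy _ => ?_⟩
  rw [TopCat.Presheaf.germ_res_apply F.obj (homOfLE hAU) y hy s]
  exact dif_pos (hAU hy)

/-- The canonical map. -/
def toCons : F ⟶ cons F :=
  ⟨{ app := fun U => AddCommGrpCat.ofHom
      { toFun := fun s => (⟨toConsFun F U.unop s, toConsFun_mem F U.unop s⟩ : consSub F U.unop)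
        map_zero' := by
          refine Subtype.ext (funext fun x => ?_)
          show toConsFun F U.unop 0 x = 0
          unfold toConsFun
          split_ifs <;> simp
        map_add' := fun a b => by
          refine Subtype.ext (funext fun x => ?_)
          show toConsFun F U.unop (a + b) x = toConsFun F U.unop a x + toConsFun F U.unop b x
          unfold toConsFun
          split_ifs <;> simp }
     naturality := fun {U V} i => by
      ext s
      refine Subtype.ext (funext fun x => ?_)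
      show toConsFun F V.unop (F.obj.map i s) x = if x ∈ V.unop then toConsFun F U.unop s x else 0
      unfold toConsFun
      by_cases hV : x ∈ V.unop
      · rw [if_pos hV, dif_pos hV, dif_pos (i.unop.le hV)]
        exact TopCat.Presheaf.germ_res_apply F.obj i.unop x hV s
      · rw [if_neg hV, dif_neg hV] }⟩

theorem val_toCons {U : Opens X} {x : X} (hx : x ∈ U) (s : F.obj.obj (op U)) :
    val F U x ((toCons F).hom.app (op U) s) = TopCat.Presheaf.germ F.obj U x hx s :=
  dif_pos hx

theorem surjective_cons_map {U V : Opens X} (h : U ≤ V) (hU : IsCompact (U : Set X)) :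
    Function.Surjective ((cons F).obj.map (homOfLE h).op) := by
  intro g
  refine ⟨(⟨fun x => val F U x g, fun x hx => (show consSub F U from g).2.1 x fun hxU => hx (h hxU),
    fun x hx => ?_⟩ : consSub F V), val_ext F fun x hx => ?_⟩
  · by_cases hxU : x ∈ U
    · obtain ⟨A, B, hA, hB, hAU, hxA, hxB, s, hs⟩ := (show consSub F U from g).2.2 x hxU
      exact ⟨A, B, hA, hB, hAU.trans h, hxA, hxB, s, hs⟩
    · obtain ⟨A, hA, hAV, hxA⟩ := exists_compact hx
      exact ⟨A, U, hA, hU, hAV, hxA, hxU, 0, fun y hy hyU =>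
        ((show consSub F U from g).2.1 y hyU).trans (map_zero _).symm⟩
  · exact val_map F _ _ hx

variable {ι : Type u} [Finite ι] (V : ι → Opens X)

theorem exists_sel :
    ∃ (e : ι → ℕ) (sel : X → Option ι), Function.Injective e ∧
      (∀ x, (∃ k, x ∈ V k) → ∃ i, sel x = some i) ∧
      ∀ x i, sel x = some i ↔ x ∈ V i ∧ ∀ j, e j < e i → x ∉ V j := by
  obtain ⟨n, ⟨eq⟩⟩ := Finite.exists_equiv_fin ι
  let e : ι → ℕ := fun i => (eq i : ℕ)
  have he : Function.Injective e := fun a b h => eq.injective (Fin.ext h)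
  let P : X → ι → Prop := fun x i => x ∈ V i ∧ ∀ j, e j < e i → x ∉ V j
  have hu : ∀ x i i', P x i → P x i' → i = i' := fun x i i' h h' => by
    rcases lt_trichotomy (e i) (e i') with hl | hl | hl
    · exact absurd h.1 (h'.2 i hl)
    · exact he hl
    · exact absurd h'.1 (h.2 i' hl)
  have hex : ∀ x, (∃ k, x ∈ V k) → ∃ i, P x i := fun x hx => by
    have h' : ∃ m : ℕ, ∃ i, e i = m ∧ x ∈ V i := hx.elim fun k hk => ⟨e k, k, rfl, hk⟩
    obtain ⟨i, hi, hxi⟩ := Nat.find_spec h'
    exact ⟨i, hxi, fun j hj hxj => Nat.find_min h' (hi ▸ hj) ⟨j, rfl, hxj⟩⟩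
  refine ⟨e, fun x => if h : ∃ i, P x i then some h.choose else none, he,
    fun x hx => ⟨_, dif_pos (hex x hx)⟩, fun x i => ⟨fun h => ?_, fun h => ?_⟩⟩
  · dsimp only at h
    by_cases hP : ∃ i, P x i
    · rw [show (if h : ∃ i, P x i then some h.choose else none) = some hP.choose from dif_pos hP] at h
      exact Option.some.inj h ▸ hP.choose_spec
    · rw [show (if h : ∃ i, P x i then some h.choose else none) = none from dif_neg hP] at h
      cases h
  · show (if h : ∃ i, P x i then some h.choose else none) = some i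
    rw [dif_pos ⟨i, h⟩]
    exact congrArg some (hu x _ _ (Exists.choose_spec (⟨i, h⟩ : ∃ i, P x i)) h)

theorem exactAt_cons (hV : ∀ i, IsCompact (V i : Set X)) (p : ℕ) :
    (Cech.cx (𝟭 (Opens X)) V (cons F).obj).ExactAt (p + 1) := by
  obtain ⟨e, sel, he, hsel, hsel'⟩ := exists_sel V
  rw [HomologicalComplex.exactAt_iff' _ p (p + 1) (p + 2) (by simp) (by simp), ShortComplex.ab_exact_iff]
  intro x hx
  -- the value of a cochain at a point
  let vx : ∀ (a : Fin (p + 2) → ι) (pt : X), CohTop.stalk F pt := fun a pt =>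
    val F (Cech.tup V a) pt (Cech.co a x)
  have hval : ∀ {n : ℕ} (a : Fin (n + 2) → ι) (z : (Cech.cx (𝟭 (Opens X)) V (cons F).obj).X n) (pt : X),
      pt ∈ Cech.tup V a → val F (Cech.tup V a) pt (Cech.co a ((Cech.cx (𝟭 (Opens X)) V (cons F).obj).d n (n + 1) z)) =
        ∑ j : Fin (n + 2), (-1 : ℤ) ^ (j : ℕ) • val F (Cech.tup V (a ∘ j.succAbove)) pt (Cech.co (a ∘ j.succAbove) z) := by
    intro n a z pt hpt
    rw [Cech.co_d]
    refine (map_sum (val F (Cech.tup V a) pt) _ _).trans (Finset.sum_congr rfl fun j _ => ?_)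
    refine (map_zsmul (val F (Cech.tup V a) pt) _ _).trans (congrArg _ ?_)
    exact val_map F (Cech.face V j a) _ hpt
  let yv : (Fin (p + 1) → ι) → ∀ pt : X, CohTop.stalk F pt := fun a pt =>
    if pt ∈ Cech.tup V a then (match sel pt with | some i => vx (Fin.cons i a) pt | none => 0) else 0
  have hyv : ∀ (a : Fin (p + 1) → ι) (pt : X) (i : ι), pt ∈ Cech.tup V a → sel pt = some i →
      yv a pt = vx (Fin.cons i a) pt := fun a pt i hpt hi => by
    simp only [yv, if_pos hpt, hi]
  have hmem : ∀ a, yv a ∈ consSub F (Cech.tup V a) := fun a => by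
    refine ⟨fun pt hpt => if_neg hpt, fun pt hpt => ?_⟩
    obtain ⟨i, hi⟩ := hsel pt ⟨a 0, (mem_tup_iff V a pt).1 hpt 0⟩
    have hpi : pt ∈ Cech.tup V (Fin.cons i a : Fin (p + 2) → ι) :=
      (mem_tup_iff V _ pt).2 (Fin.cases ((hsel' pt i).1 hi).1 fun k => by
        simpa using (mem_tup_iff V a pt).1 hpt k)
    obtain ⟨A, B, hA, hB, hAU, hptA, hptB, s, hs⟩ :=
      (show consSub F (Cech.tup V (Fin.cons i a : Fin (p + 2) → ι)) from Cech.co _ x).2.2 pt hpi
    haveI := Fintype.ofFinite ι
    let B' : Opens X := (Finset.univ.filter fun j => e j < e i).sup V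
    have hB' : ∀ y, y ∈ B' ↔ ∃ j, e j < e i ∧ y ∈ V j := fun y => by
      simp only [B', Finset.sup_eq_iSup, Opens.mem_iSup, Finset.mem_filter, Finset.mem_univ, true_and, exists_prop]
    have hAa : ∀ y ∈ A, y ∈ V i ∧ ∀ k, y ∈ V (a k) := fun y hy =>
      ⟨by simpa using (mem_tup_iff V _ y).1 (hAU hy) 0, fun k => by simpa using (mem_tup_iff V _ y).1 (hAU hy) k.succ⟩
    refine ⟨A, B ⊔ B', hA, isCompact_sup hB (isCompact_finset_sup _ _ fun j _ => hV j),
      fun y hy => (mem_tup_iff V a y).2 (hAa y hy).2, hptA,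
      fun h => h.elim hptB fun h' => ((hB' pt).1 h').elim fun j hj => ((hsel' pt i).1 hi).2 j hj.1 hj.2,
      s, fun y hy hyB => ?_⟩
    rw [hyv a y i ((mem_tup_iff V a y).2 (hAa y hy).2)
      ((hsel' y i).2 ⟨(hAa y hy).1, fun j hj hyj => hyB (Or.inr ((hB' y).2 ⟨j, hj, hyj⟩))⟩)]
    exact hs y hy fun h => hyB (Or.inl h)
  let y : (Cech.cx (𝟭 (Opens X)) V (cons F).obj).X p := Cech.mk fun a => (⟨yv a, hmem a⟩ : consSub F (Cech.tup V a))
  have hy : ∀ a pt, val F (Cech.tup V a) pt (Cech.co a y) = yv a pt := fun a pt => by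
    rw [Cech.co_mk]; rfl
  refine ⟨y, Cech.co_ext fun a => val_ext F fun pt hpt => ?_⟩
  change val F (Cech.tup V a) pt (Cech.co a ((Cech.cx (𝟭 (Opens X)) V (cons F).obj).d p (p + 1) y)) = vx a pt
  rw [hval a y pt hpt]
  obtain ⟨i, hi⟩ := hsel pt ⟨a 0, (mem_tup_iff V a pt).1 hpt 0⟩
  have hpi : pt ∈ Cech.tup V (Fin.cons i a : Fin (p + 3) → ι) :=
    (mem_tup_iff V _ pt).2 (Fin.cases ((hsel' pt i).1 hi).1 fun k => by
      simpa using (mem_tup_iff V a pt).1 hpt k)
  have h0 : ∑ j : Fin (p + 3), (-1 : ℤ) ^ (j : ℕ) •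
      vx ((Fin.cons i a : Fin (p + 3) → ι) ∘ j.succAbove) pt = 0 := by
    rw [← hval (n := p + 1) (Fin.cons i a) x pt hpi]
    erw [hx]
    rw [map_zero, map_zero]
  rw [Fin.sum_univ_succ] at h0
  have e0 : (Fin.cons i a : Fin (p + 3) → ι) ∘ (0 : Fin (p + 3)).succAbove = a :=
    funext fun k => by simp
  rw [e0, Fin.val_zero, pow_zero, one_smul] at h0
  rw [eq_neg_of_add_eq_zero_left h0, ← Finset.sum_neg_distrib]
  refine Finset.sum_congr rfl fun j _ => ?_
  have ej : (Fin.cons i a : Fin (p + 3) → ι) ∘ j.succ.succAbove = Fin.cons i (a ∘ j.succAbove) :=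
    funext (Fin.cases (by simp) fun k => by simp)
  rw [hy, hyv (a ∘ j.succAbove) pt i ((mem_tup_iff V (a ∘ j.succAbove) pt).2 fun k => (mem_tup_iff V a pt).1 hpt _) hi, ej, Fin.val_succ,
    pow_succ, mul_neg_one, neg_smul, neg_neg]

/-- The sheaf has no higher cohomology on compact opens. -/
theorem subsingleton_ext_cons (U : Opens X) (hU : IsCompact (U : Set X)) (p : ℕ) :
    Subsingleton (Ext (SiteCoh.fs (Opens.grothendieckTopology X) U) (cons F) (p + 1)) := by
  refine Cech.cartan_opens (cons F) {U | IsCompact (U : Set X)}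
    (fun ι V => Finite ι ∧ ∀ i, IsCompact (V i : Set X)) ?_ ?_ ?_ U hU p
  · rintro ι V ⟨hι, hV⟩
    refine ⟨?_, fun p a => isCompact_iInf_fin _ fun k => hV _⟩
    show IsCompact ((iSup V : Opens X) : Set X)
    rw [Opens.coe_iSup]
    exact isCompact_iUnion hV
  · intro U hU κ W hW
    have h : ∀ x : (U : Set X), ∃ (k : κ) (A : Opens X), IsCompact (A : Set X) ∧ A ≤ W k ∧ x.1 ∈ A := fun x => by
      obtain ⟨k, hk⟩ := Opens.mem_iSup.1 (show x.1 ∈ iSup W from hW.symm ▸ x.2)
      exact ⟨k, exists_compact hk⟩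
    choose k A hA hle hxA using h
    obtain ⟨t, ht⟩ := (show IsCompact (U : Set X) from hU).elim_finite_subcover (fun x => (A x : Set X))
      (fun x => (A x).isOpen) fun x hx => Set.mem_iUnion.2 ⟨⟨x, hx⟩, hxA ⟨x, hx⟩⟩
    refine ⟨t, fun x => A x.1, ⟨inferInstance, fun x => hA _⟩, le_antisymm
      (iSup_le fun x => (hle x.1).trans ((le_iSup W _).trans_eq hW)) fun x hx => ?_, fun x => ⟨k x.1, hle x.1⟩⟩
    obtain ⟨i, hi, hxi⟩ := Set.mem_iUnion₂.1 (ht hx)
    exact Opens.mem_iSup.2 ⟨⟨i, hi⟩, hxi⟩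
  · rintro ι V ⟨hι, hV⟩ p
    exact exactAt_cons F V hV p

end

end Groth.L10.Spectral
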