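import Groth.Agent.L10.Spectral.SubSheaf
import Groth.Agent.L10.TopCohColim
import Groth.Agent.L10.TopCoh
import Mathlib.Algebra.Homology.ShortComplex.Ab
import Mathlib.RingTheory.Coprime.Lemmas
import Mathlib.RingTheory.Int.Basic
import Mathlib.Tactic.LinearCombination
import Mathlib.Algebra.Homology.DerivedCategory.Ext.ExactSequences

/-!
On a quasi-compact prespectral quasi-separated space, vanishing above a degree for the free sheaves on compact
opens implies vanishing for all abelian sheaves.
-/

set_option autoImplicit false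
set_option linter.style.haveILetI false
set_option linter.unusedSectionVars false
set_option backward.defeqAttrib.useBackward true
set_option backward.isDefEq.respectTransparency false
universe u

open CategoryTheory CategoryTheory.Limits CategoryTheory.Abelian Opposite TopologicalSpace

noncomputable section

namespace Groth.L10.ExtZero

open Groth.L21.RR.Top (stF)
open Groth.L10.SiteCoh (fs fsMap secEquiv)
open Groth.L10.SubSheaf Groth.L10.FreeStalk

open scoped Classical

variable {X : TopCat.{u}}

local notation "JX" => Opens.grothendieckTopology X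

/-- No cohomology above degree `d`. -/
def Cl (d : ℕ) (F : CohTop.Ab X) : Prop := ∀ n : ℕ, d < n + 1 → Subsingleton (Ext (fs JX ⊤) F (n + 1))

variable {d : ℕ}

theorem Cl.of_iso {F G : CohTop.Ab X} (e : F ≅ G) (h : Cl d F) : Cl d G := fun p hp => by
  refine subsingleton_of_forall_eq 0 fun x => ?_
  rw [← Ext.comp_mk₀_id x, ← e.inv_hom_id, ← Ext.mk₀_comp_mk₀, ← Ext.comp_assoc_of_second_deg_zero,
    (h p hp).elim (x.comp (Ext.mk₀ e.inv) (add_zero _)) 0, Ext.zero_comp]

theorem Cl.ext₂ {S : ShortComplex (CohTop.Ab X)} (hS : S.ShortExact) (h1 : Cl d S.X₁) (h3 : Cl d S.X₃) :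
    Cl d S.X₂ := fun p hp => by
  refine subsingleton_of_forall_eq 0 fun x => ?_
  obtain ⟨y, hy⟩ := Ext.covariant_sequence_exact₂ _ hS x ((h3 p hp).elim _ _)
  rw [← hy, (h1 p hp).elim y 0, Ext.zero_comp]

theorem Cl.quot {S : ShortComplex (CohTop.Ab X)} (hS : S.ShortExact) (h1 : Cl d S.X₁) (h2 : Cl d S.X₂) :
    Cl d S.X₃ := fun p hp => by
  refine subsingleton_of_forall_eq 0 fun x => ?_
  obtain ⟨y, hy⟩ := Ext.covariant_sequence_exact₃ _ hS x (n₁ := p + 1 + 1) rfl
    ((h1 (p + 1) (by omega)).elim _ _)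
  rw [← hy, (h2 p hp).elim y 0, Ext.zero_comp]

theorem isZero_of_stalks {F : CohTop.Ab X} (h : ∀ x : X, Subsingleton ((stF x).obj F)) : IsZero F := by
  rw [IsZero.iff_id_eq_zero]
  refine Sheaf.hom_ext (NatTrans.ext (funext fun U => AddCommGrpCat.hom_ext (AddMonoidHom.ext fun s => ?_)))
  exact TopCat.Presheaf.section_ext F U.unop _ _ fun x _ => (h x).elim _ _

theorem Cl.of_isZero {F : CohTop.Ab X} (h : IsZero F) : Cl d F := fun p _ => by
  refine subsingleton_of_forall_eq 0 fun x => ?_
  rw [← Ext.comp_mk₀_id x, h.eq_of_src (𝟙 F) 0, Ext.mk₀_zero, Ext.comp_zero]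

theorem exact_of_stalks (S : ShortComplex (CohTop.Ab X)) (h : ∀ x : X, (S.map (stF x)).Exact) : S.Exact := by
  rw [ShortComplex.exact_iff_isZero_homology]
  refine isZero_of_stalks fun x => AddCommGrpCat.subsingleton_of_isZero ?_
  exact IsZero.of_iso ((S.map (stF x)).exact_iff_isZero_homology.1 (h x)) (S.mapHomologyIso (stF x)).symm

theorem epi_of_stalks {F G : CohTop.Ab X} (φ : F ⟶ G) (h : ∀ x : X, Epi ((stF x).map φ)) : Epi φ := by
  refine Abelian.epi_of_cokernel_π_eq_zero _ ((isZero_of_stalks fun x => ?_).eq_of_tgt _ _)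
  haveI := h x
  refine AddCommGrpCat.subsingleton_of_isZero (IsZero.of_epi_eq_zero ((stF x).map (cokernel.π φ)) ?_)
  rw [← cancel_epi ((stF x).map φ), ← Functor.map_comp, cokernel.condition, Functor.map_zero, comp_zero]

variable {F : CohTop.Ab X}

theorem isIso_incl {S : ∀ x : X, AddSubgroup (CohTop.stalk F x)} (hS : IsOpenFam S) (hS' : ∀ x, S x = ⊤) :
    IsIso (incl S) := by
  haveI : Epi (incl S) := epi_of_stalks _ fun x => (AddCommGrpCat.epi_iff_surjective _).2 fun z =>
    hS.exists_stalk (by rw [hS' x]; exact AddSubgroup.mem_top z)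
  exact isIso_of_mono_of_epi _

theorem isOpenFam_comap {F' : CohTop.Ab X} (φ : F' ⟶ F) {S : ∀ x : X, AddSubgroup (CohTop.stalk F x)}
    (hS : IsOpenFam S) : IsOpenFam (fun x => (S x).comap ((stF x).map φ).hom) := by
  intro x z hz
  obtain ⟨W, hW, a, rfl⟩ := TopCat.Presheaf.exists_germ_eq F'.obj z
  obtain ⟨W', hW', b, hb, hba⟩ := hS x _ hz
  have hφ : ∀ {O : Opens X} (y : X) (hy : y ∈ O) (c : F'.obj.obj (op O)),
      (stF y).map φ (TopCat.Presheaf.germ F'.obj O y hy c) = TopCat.Presheaf.germ F.obj O y hy (φ.hom.app (op O) c) :=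
    fun {O} y hy c => TopCat.Presheaf.stalkFunctor_map_germ_apply O y hy φ.hom c
  obtain ⟨O, hxO, i₁, i₂, he⟩ := TopCat.Presheaf.germ_eq F.obj x hW' hW b (φ.hom.app (op W) a)
    (hba.trans (hφ x hW a))
  refine ⟨O, hxO, F'.obj.map i₂.op a, fun y hy => ?_, TopCat.Presheaf.germ_res_apply F'.obj i₂ x hxO a⟩
  show (stF y).map φ _ ∈ S y
  rw [hφ, NatTrans.naturality_apply, ← he, TopCat.Presheaf.germ_res_apply F.obj i₁ y hy b]
  exact hb y _

section Gens

variable {ι : Type u} (V : ι → Opens X) (s : ∀ i, F.obj.obj (op (V i)))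

/-- One more generator. -/
theorem cl_insert (t : Set ι) (a : ι) (hV : Cl d (fs JX (V a))) (h1 : Cl d (sub (gens V s t)))
    (hT : Cl d (sub fun x => (gens V s t x).comap ((stF x).map ((secEquiv JX (V a) F).symm (s a))).hom)) :
    Cl d (sub (gens V s (insert a t))) := by
  let φ : fs JX (V a) ⟶ F := (secEquiv JX (V a) F).symm (s a)
  let T : ∀ x : X, AddSubgroup (CohTop.stalk (fs JX (V a)) x) := fun x => (gens V s t x).comap ((stF x).map φ).hom
  let S' := gens V s (insert a t)
  have hγ : ∀ x (hx : x ∈ V a), (stF x).map φ (γ (V a) x hx) = TopCat.Presheaf.germ F.obj (V a) x hx (s a) :=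
    fun x hx => (map_γ (V a) φ hx).trans (by rw [AddEquiv.apply_symm_apply])
  let ψ : fs JX (V a) ⟶ sub S' := (secEquiv JX (V a) (sub S')).symm
    (⟨s a, fun x hx => germ_mem_gens V s (Set.mem_insert a t) hx⟩ : secs S' (V a))
  have hψ : ψ ≫ incl S' = φ := (secEquiv JX (V a) F).injective (by
    rw [Groth.L10.SiteCoh.secEquiv_comp, AddEquiv.apply_symm_apply, AddEquiv.apply_symm_apply]
    rfl)
  let j := subMap (gens_mono V s (Set.subset_insert a t))
  haveI : Mono (j ≫ incl S') := by rw [subMap_incl]; infer_instance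
  haveI : Mono j := mono_of_mono j (incl S')
  let E₁ : ShortComplex (CohTop.Ab X) := ShortComplex.mk j (cokernel.π j) (cokernel.condition j)
  have hE₁ : E₁.ShortExact := { exact := ShortComplex.exact_cokernel _ }
  have hE₁x : ∀ x, (E₁.map (stF x)).Exact := fun x => hE₁.exact.map (stF x)
  have hrange : ∀ x, S' x ≤ AddMonoidHom.range ((stF x).map φ).hom ⊔ gens V s t x := fun x => by
    refine (AddSubgroup.closure_le _).2 ?_
    rintro _ ⟨k, hk, hx, rfl⟩
    rcases Set.mem_insert_iff.1 hk with rfl | hk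
    · exact AddSubgroup.mem_sup_left ⟨γ (V k) x hx, hγ x hx⟩
    · exact AddSubgroup.mem_sup_right (germ_mem_gens V s hk hx)
  have hcomp : ∀ x w, (stF x).map (incl S') ((stF x).map ψ w) = (stF x).map φ w := fun x w => by
    rw [← ConcreteCategory.comp_apply, ← Functor.map_comp, hψ]
  have hcompj : ∀ x w, (stF x).map (incl S') ((stF x).map j w) = (stF x).map (incl (gens V s t)) w := fun x w => by
    rw [← ConcreteCategory.comp_apply, ← Functor.map_comp, subMap_incl]
  let g : fs JX (V a) ⟶ cokernel j := ψ ≫ cokernel.π j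
  have hgz : ∀ (x : X) (w : (stF x).obj (fs JX (V a))), (stF x).map g w = 0 ↔ w ∈ T x := fun x w => by
    rw [Functor.map_comp, ConcreteCategory.comp_apply]
    constructor
    · intro h
      obtain ⟨v, hv⟩ := (ShortComplex.ab_exact_iff _).1 (hE₁x x) _ h
      show (stF x).map φ w ∈ gens V s t x
      rw [← hcomp x w, ← hv]
      erw [hcompj x v]
      exact mem_of_stalk x v
    · intro h
      obtain ⟨v, hv⟩ := (isOpenFam_gens V s t).exists_stalk (x := x) (show (stF x).map φ w ∈ gens V s t x from h)
      have e : (stF x).map j v = (stF x).map ψ w := injective_stF_incl S' x (by rw [hcompj, hcomp, hv])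
      rw [← e, ← ConcreteCategory.comp_apply, ← Functor.map_comp, cokernel.condition, Functor.map_zero]
      rfl
  have hzero : incl T ≫ g = 0 := by
    refine Sheaf.hom_ext (NatTrans.ext (funext fun W => AddCommGrpCat.hom_ext (AddMonoidHom.ext fun c => ?_)))
    refine TopCat.Presheaf.section_ext (cokernel j) W.unop _ _ fun x hx => ?_
    refine Eq.trans ?_ (map_zero (TopCat.Presheaf.germ (cokernel j).obj W.unop x hx).hom).symm
    exact (TopCat.Presheaf.stalkFunctor_map_germ_apply W.unop x hx g.hom _).symm.trans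
      ((hgz x _).2 ((show secs T W.unop from c).2 x hx))
  let E₂ : ShortComplex (CohTop.Ab X) := ShortComplex.mk (incl T) g hzero
  have hE₂ : E₂.ShortExact := by
    haveI : Epi g := epi_of_stalks g fun x => (AddCommGrpCat.epi_iff_surjective _).2 fun q => by
      obtain ⟨z, rfl⟩ := (AddCommGrpCat.epi_iff_surjective ((stF x).map (cokernel.π j))).1 inferInstance q
      obtain ⟨_, ⟨w, rfl⟩, b, hb, hab⟩ := AddSubgroup.mem_sup.1 (hrange x (mem_of_stalk x z))
      obtain ⟨v, hv⟩ := (isOpenFam_gens V s t).exists_stalk hb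
      refine ⟨w, ?_⟩
      have e : z = (stF x).map ψ w + (stF x).map j v := injective_stF_incl S' x (by
        rw [map_add, hcomp, hcompj, hv]
        exact hab.symm)
      rw [e, map_add, ← ConcreteCategory.comp_apply ((stF x).map j), ← Functor.map_comp, cokernel.condition,
        Functor.map_zero, Functor.map_comp, ConcreteCategory.comp_apply]
      exact (add_zero _).symm
    exact { exact := exact_of_stalks _ fun x => (ShortComplex.ab_exact_iff _).2 fun w hw =>
              (isOpenFam_comap φ (isOpenFam_gens V s t)).exists_stalk ((hgz x w).1 hw) }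
  exact Cl.ext₂ hE₁ h1 (Cl.quot (S := E₂) hE₂ hT hV)

theorem exists_finset {x : X} {z : CohTop.stalk F x} (hz : z ∈ gens V s Set.univ x) :
    ∃ t : Finset ι, z ∈ gens V s (t : Set ι) x := by
  unfold gens at hz
  induction hz using AddSubgroup.closure_induction with
  | mem z hz =>
    obtain ⟨j, -, h, rfl⟩ := hz
    exact ⟨{j}, germ_mem_gens V s (by simp) h⟩
  | zero => exact ⟨∅, zero_mem _⟩
  | add a b _ _ ha hb =>
    obtain ⟨t, ht⟩ := ha
    obtain ⟨t', ht'⟩ := hb
    exact ⟨t ∪ t', add_mem (gens_mono V s (by simp) x ht) (gens_mono V s (by simp) x ht')⟩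
  | neg a _ ha =>
    obtain ⟨t, ht⟩ := ha
    exact ⟨t, neg_mem ht⟩

/-- The finitely generated subsheaves as a diagram. -/
def diag : Finset ι ⥤ CohTop.Ab X where
  obj t := sub (gens V s (t : Set ι))
  map i := subMap (gens_mono V s (Finset.coe_subset.2 i.le))
  map_id t := (cancel_mono (incl (gens V s (t : Set ι)))).1 (by rw [subMap_incl, Category.id_comp])
  map_comp i j := (cancel_mono (incl _)).1 (by rw [Category.assoc, subMap_incl, subMap_incl, subMap_incl])

/-- The cocone with point the subsheaf generated by all the sections. -/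
def diagCocone : Cocone (diag V s) where
  pt := sub (gens V s Set.univ)
  ι :=
    { app := fun t => subMap (gens_mono V s (Set.subset_univ _))
      naturality := fun t t' i => (cancel_mono (incl (gens V s Set.univ))).1 (by
        dsimp [diag]
        rw [Category.assoc, Category.assoc, Category.id_comp, subMap_incl, subMap_incl, subMap_incl]) }

theorem isIso_diag_desc : IsIso (colimit.desc (diag V s) (diagCocone V s)) := by
  haveI : ∀ x : X, IsIso ((TopCat.Presheaf.stalkFunctor AddCommGrpCat.{u} x).map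
      (colimit.desc (diag V s) (diagCocone V s)).hom) := fun x => by
    change IsIso ((stF x).map (colimit.desc (diag V s) (diagCocone V s)))
    haveI : PreservesColimitsOfSize.{u, u} (stF x) :=
      (stalkSkyscraperSheafAdjunction (C := AddCommGrpCat.{u}) x).leftAdjoint_preservesColimits
    have hι : ∀ (t : Finset ι) (w : (stF x).obj (sub (gens V s (t : Set ι)))),
        (stF x).map (colimit.desc (diag V s) (diagCocone V s)) ((stF x).map (colimit.ι (diag V s) t) w) =
          (stF x).map ((diagCocone V s).ι.app t) w := fun t w => by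
      refine (ConcreteCategory.comp_apply _ _ _).symm.trans ?_
      exact congr($(((stF x).map_comp _ _).symm.trans (congrArg (stF x).map (colimit.ι_desc (diagCocone V s) t))) w)
    have hincl : ∀ (t : Finset ι) (w : (stF x).obj (sub (gens V s (t : Set ι)))),
        (stF x).map (incl (gens V s Set.univ)) ((stF x).map ((diagCocone V s).ι.app t) w) =
          (stF x).map (incl (gens V s (t : Set ι))) w := fun t w => by
      refine (ConcreteCategory.comp_apply _ _ _).symm.trans ?_
      exact congr($(((stF x).map_comp _ _).symm.trans (congrArg (stF x).map (subMap_incl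
        (gens_mono V s (Set.subset_univ (t : Set ι)))))) w)
    refine (ConcreteCategory.isIso_iff_bijective _).2 ⟨(injective_iff_map_eq_zero _).2 fun z hz => ?_, fun z => ?_⟩
    · obtain ⟨t, w, rfl⟩ := Concrete.isColimit_exists_rep _
        (isColimitOfPreserves (stF x) (colimit.isColimit (diag V s))) z
      have h0 : (stF x).map ((diagCocone V s).ι.app t) w = 0 := (hι t w).symm.trans hz
      have hw : w = 0 := injective_stF_incl _ x (by
        refine Eq.trans ?_ (map_zero _).symm
        exact (hincl t w).symm.trans ((congrArg ((stF x).map (incl (gens V s Set.univ))) h0).trans (map_zero _)))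
      rw [hw]
      exact map_zero _
    · obtain ⟨t, ht⟩ := exists_finset V s (mem_of_stalk x z)
      obtain ⟨v, hv⟩ := (isOpenFam_gens V s (t : Set ι)).exists_stalk ht
      refine ⟨(stF x).map (colimit.ι (diag V s) t) v, ?_⟩
      refine (hι t v).trans (injective_stF_incl (gens V s Set.univ) x ?_)
      exact (hincl t v).trans hv
  exact TopCat.Presheaf.isIso_of_stalkFunctor_map_iso _

variable [CompactSpace X] [PrespectralSpace X] [QuasiSeparatedSpace X]

theorem cl_union (h : ∀ t : Finset ι, Cl d (sub (gens V s (t : Set ι)))) : Cl d (sub (gens V s Set.univ)) := by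
  haveI := isIso_diag_desc V s
  refine Cl.of_iso (asIso (colimit.desc (diag V s) (diagCocone V s))) fun n hn => ?_
  haveI : IsFiltered (Finset ι) := inferInstance
  haveI := Groth.L10.TopColim.preservesColimitsOfShape_H (X := X) (U := (⊤ : Opens X))
    (by rw [Opens.coe_top]; exact isCompact_univ) (Finset ι) (n + 1)
  let H := (Sheaf.cohomologyPresheafFunctor JX (n + 1)).flip.obj (op (⊤ : Opens X))
  let hc := isColimitOfPreserves H (colimit.isColimit (diag V s))
  refine AddCommGrpCat.subsingleton_of_isZero (G := H.obj (colimit (diag V s))) ?_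
  rw [IsZero.iff_id_eq_zero]
  refine hc.hom_ext fun t => (IsZero.eq_of_src ?_ _ _)
  exact @AddCommGrpCat.isZero_of_subsingleton ((diag V s ⋙ H).obj t) (h t n hn)

end Gens

section Arith

/-- The part of `a` prime to `n`. -/
def cut (a n : ℤ) : ℤ := a / (Int.gcd a n : ℤ)

theorem cut_mul (a n : ℤ) : cut a n * n = a * (n / (Int.gcd a n : ℤ)) := by
  rw [cut, ← Int.mul_ediv_assoc a (Int.gcd_dvd_right a n), Int.mul_comm, ← Int.mul_ediv_assoc n (Int.gcd_dvd_left a n),
    Int.mul_comm]

theorem mem_closure_cut_iff (N : Set ℤ) {n : ℤ} (hn : n ≠ 0) (k : ℤ) :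
    k ∈ AddSubgroup.closure ((fun a => cut a n) '' N) ↔ k * n ∈ AddSubgroup.closure N := by
  have hsmul : ∀ (M : AddSubgroup ℤ) (c y : ℤ), y ∈ M → c * y ∈ M := fun M c y hy => by
    simpa using zsmul_mem hy c
  constructor
  · intro hk
    induction hk using AddSubgroup.closure_induction with
    | mem z hz =>
      obtain ⟨a, ha, rfl⟩ := hz
      rw [cut_mul, mul_comm]
      exact hsmul _ _ _ (AddSubgroup.subset_closure ha)
    | zero => simp
    | add a b _ _ ha hb => rw [add_mul]; exact add_mem ha hb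
    | neg a _ ha => rw [neg_mul]; exact neg_mem ha
  · intro hk
    let I := AddSubgroup.closure ((fun a => cut a n) '' N)
    have key : ∀ z ∈ AddSubgroup.closure N, ∃ P i : ℤ, i ∈ I ∧ z * P = n * i ∧ ∀ y, y * P ∈ I → y ∈ I := by
      intro z hz
      induction hz using AddSubgroup.closure_induction with
      | mem a ha =>
        let g : ℤ := Int.gcd a n
        have hco : IsCoprime (a / g) (n / g) := by
          rw [Int.isCoprime_iff_gcd_eq_one]
          exact Int.gcd_ediv_gcd_ediv_gcd (Int.gcd_pos_of_ne_zero_right a hn)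
        refine ⟨n / g, cut a n, AddSubgroup.subset_closure ⟨a, ha, rfl⟩, ?_, fun y hy => ?_⟩
        · rw [mul_comm n, cut_mul]
        · obtain ⟨u', v', huv⟩ := hco
          rw [show y = y * u' * cut a n + v' * (y * (n / g)) by
            rw [show cut a n = a / g from rfl]; linear_combination -y * huv]
          exact add_mem (hsmul _ _ _ (AddSubgroup.subset_closure ⟨a, ha, rfl⟩)) (hsmul _ _ _ hy)
      | zero => exact ⟨1, 0, zero_mem _, by simp, fun y hy => by simpa using hy⟩
      | add a b _ _ ha hb =>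
        obtain ⟨P, i, hi, hP, hP'⟩ := ha
        obtain ⟨Q, i', hi', hQ, hQ'⟩ := hb
        refine ⟨P * Q, Q * i + P * i', add_mem (hsmul _ _ _ hi) (hsmul _ _ _ hi'), ?_, fun y hy => hP' y (hQ' _ ?_)⟩
        · linear_combination Q * hP + P * hQ
        · rwa [mul_assoc]
      | neg a _ ha =>
        obtain ⟨P, i, hi, hP, hP'⟩ := ha
        exact ⟨P, -i, neg_mem hi, by linear_combination -hP, hP'⟩
    obtain ⟨P, i, hi, hP, hP'⟩ := key _ hk
    refine hP' k ?_
    rw [show k * P = i from mul_left_cancel₀ hn (by linear_combination hP)]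
    exact hi

end Arith

section Main

variable {ι : Type u} {U : Opens X} (V : ι → Opens X) (hle : ∀ i, V i ≤ U) (k : ι → ℤ)

/-- Multiples of the tautological section on smaller opens. -/
abbrev mult (i : ι) : (fs JX U).obj.obj (op (V i)) :=
  k i • (fs JX U).obj.map (homOfLE (hle i)).op (gen U)

theorem germ_mult (i : ι) {x : X} (hx : x ∈ V i) :
    TopCat.Presheaf.germ (fs JX U).obj (V i) x hx (mult V hle k i) = k i • γ U x (hle i hx) := by
  rw [mult, map_zsmul, TopCat.Presheaf.germ_res_apply (fs JX U).obj (homOfLE (hle i)) x hx (gen U)]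
  rfl

theorem gens_mult_eq (t : Set ι) {x : X} (hx : x ∈ U) :
    gens V (mult V hle k) t x =
      (AddSubgroup.closure (k '' {j | j ∈ t ∧ x ∈ V j})).map (zmultiplesHom _ (γ U x hx)) := by
  rw [AddMonoidHom.map_closure, gens]
  congr 1
  ext z
  constructor
  · rintro ⟨j, hj, h, rfl⟩
    exact ⟨k j, ⟨j, ⟨hj, h⟩, rfl⟩, (germ_mult V hle k j h).symm⟩
  · rintro ⟨_, ⟨j, ⟨hj, h⟩, rfl⟩, rfl⟩
    exact ⟨j, hj, h, germ_mult V hle k j h⟩

theorem zsmul_mem_gens_iff (t : Set ι) {x : X} (hx : x ∈ U) (c : ℤ) :
    c • γ U x hx ∈ gens V (mult V hle k) t x ↔ c ∈ AddSubgroup.closure (k '' {j | j ∈ t ∧ x ∈ V j}) := by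
  rw [gens_mult_eq V hle k t hx]
  exact ⟨fun ⟨c', hc', e⟩ => zsmul_γ_inj U hx e ▸ hc', fun h => ⟨c, h, rfl⟩⟩

variable [CompactSpace X] [PrespectralSpace X] [QuasiSeparatedSpace X]

theorem cl_gens_mult (hd : ∀ (U : Opens X), IsCompact (U : Set X) → Cl d (fs JX U)) : ∀ (m : ℕ) (U : Opens X) (ι : Type u) (V : ι → Opens X) (hle : ∀ i, V i ≤ U) (k : ι → ℤ),
    IsCompact (U : Set X) → (∀ i, IsCompact (V i : Set X)) → ∀ t : Finset ι, t.card ≤ m →
    Cl d (sub (gens V (mult V hle k) (t : Set ι))) := by
  intro m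
  induction m with
  | zero =>
    intro U ι V hle k _ _ t ht
    obtain rfl : t = ∅ := Finset.card_eq_zero.1 (Nat.le_zero.1 ht)
    refine Cl.of_isZero (isZero_of_stalks fun x => subsingleton_of_forall_eq 0 fun z => injective_stF_incl _ x ?_)
    have h := mem_of_stalk x z
    rw [gens, show {w | ∃ j ∈ ((∅ : Finset ι) : Set ι), ∃ h : x ∈ V j, TopCat.Presheaf.germ (fs JX U).obj (V j) x h
      (mult V hle k j) = w} = ∅ by simp, AddSubgroup.closure_empty, AddSubgroup.mem_bot] at h
    rw [map_zero]
    exact h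
  | succ m ih =>
    intro U ι V hle k hU hV t ht
    by_cases hcard : t.card ≤ m
    · exact ih U ι V hle k hU hV t hcard
    obtain ⟨a, ha⟩ := Finset.card_pos.1 (show 0 < t.card by omega)
    have hcard' : (t.erase a).card ≤ m := by rw [Finset.card_erase_of_mem ha]; omega
    have ht' : (t : Set ι) = insert a ((t.erase a : Finset ι) : Set ι) := by
      rw [← Finset.coe_insert, Finset.insert_erase ha]
    rw [ht']
    by_cases hk : k a = 0
    · have e : gens V (mult V hle k) (insert a ((t.erase a : Finset ι) : Set ι)) =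
          gens V (mult V hle k) ((t.erase a : Finset ι) : Set ι) := by
        funext x
        refine le_antisymm ((AddSubgroup.closure_le _).2 ?_) (gens_mono _ _ (Set.subset_insert _ _) x)
        rintro _ ⟨j, hj, h, rfl⟩
        rcases Set.mem_insert_iff.1 hj with rfl | hj
        · rw [germ_mult, hk, zero_zsmul]; exact zero_mem _
        · exact germ_mem_gens _ _ hj h
      rw [e]
      exact ih U ι V hle k hU hV _ hcard'
    refine cl_insert V (mult V hle k) _ a (hd _ (hV a)) (ih U ι V hle k hU hV _ hcard') ?_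
    let V' : ι → Opens X := fun j => V a ⊓ V j
    let k' : ι → ℤ := fun j => cut (k j) (k a)
    have hV' : ∀ j, IsCompact (V' j : Set X) := fun j => by
      rw [Opens.coe_inf]
      exact QuasiSeparatedSpace.inter_isCompact _ _ (V a).isOpen (hV a) (V j).isOpen (hV j)
    have e : (fun x => (gens V (mult V hle k) ((t.erase a : Finset ι) : Set ι) x).comap
        ((stF x).map ((secEquiv JX (V a) (fs JX U)).symm (mult V hle k a))).hom) =
        gens V' (mult V' (fun j => (inf_le_left : V a ⊓ V j ≤ V a)) k') ((t.erase a : Finset ι) : Set ι) := by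
      funext x
      ext z
      by_cases hx : x ∈ V a
      · obtain ⟨c, rfl⟩ := exists_eq_zsmul (V a) hx z
        have h2 : (stF x).map ((secEquiv JX (V a) (fs JX U)).symm (mult V hle k a)) (γ (V a) x hx) =
            k a • γ U x (hle a hx) :=
          (map_γ (V a) ((secEquiv JX (V a) (fs JX U)).symm (mult V hle k a)) hx).trans (by rw [AddEquiv.apply_symm_apply, germ_mult])
        rw [zsmul_mem_gens_iff V' _ k' _ hx c, AddSubgroup.mem_comap, map_zsmul, h2, ← mul_zsmul', mul_comm,
          zsmul_mem_gens_iff V hle k _ (hle a hx), ← mem_closure_cut_iff _ hk, Set.image_image]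
        have hs : {j | j ∈ ((t.erase a : Finset ι) : Set ι) ∧ x ∈ V' j} =
            {j | j ∈ ((t.erase a : Finset ι) : Set ι) ∧ x ∈ V j} :=
          Set.ext fun j => ⟨fun h => ⟨h.1, h.2.2⟩, fun h => ⟨h.1, hx, h.2⟩⟩
        rw [hs]
      · rw [eq_zero_of_notMem (V a) hx z]
        exact ⟨fun _ => zero_mem _, fun _ => zero_mem _⟩
    rw [e]
    exact ih (V a) ι V' (fun j => inf_le_left) k' (hV a) hV' _ hcard'

theorem cl_sub_free (hd : ∀ (U : Opens X), IsCompact (U : Set X) → Cl d (fs JX U)) {U : Opens X} (hU : IsCompact (U : Set X)) (T : ∀ x : X, AddSubgroup (CohTop.stalk (fs JX U) x))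
    (hT : IsOpenFam T) : Cl d (sub T) := by
  let ι : Type u := {p : Opens X × ULift.{u} ℤ //
    IsCompact (p.1 : Set X) ∧ ∃ h : p.1 ≤ U, p.2.down • (fs JX U).obj.map (homOfLE h).op (gen U) ∈ secs T p.1}
  let V : ι → Opens X := fun p => p.1.1
  let k : ι → ℤ := fun p => p.1.2.down
  have hle : ∀ p, V p ≤ U := fun p => p.2.2.choose
  have e : T = gens V (mult V hle k) Set.univ := by
    funext x
    refine le_antisymm (fun z hz => ?_) ((AddSubgroup.closure_le _).2 ?_)
    · rcases exists_zsmul_γ U z with rfl | ⟨hx, c, rfl⟩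
      · exact zero_mem _
      obtain ⟨W, hW, b, hb, hbz⟩ := hT x _ hz
      have hz' : TopCat.Presheaf.germ (fs JX U).obj (U ⊓ W) x ⟨hx, hW⟩
          (c • (fs JX U).obj.map (homOfLE inf_le_left).op (gen U)) = TopCat.Presheaf.germ (fs JX U).obj W x hW b := by
        rw [map_zsmul, TopCat.Presheaf.germ_res_apply (fs JX U).obj (homOfLE inf_le_left) x ⟨hx, hW⟩ (gen U), hbz]
        rfl
      obtain ⟨O, hxO, i₁, i₂, he⟩ := TopCat.Presheaf.germ_eq (fs JX U).obj x _ _ _ _ hz'
      obtain ⟨A, hA, hxA, hAO⟩ := PrespectralSpace.isTopologicalBasis.exists_subset_of_mem_open hxO O.isOpen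
      let A' : Opens X := ⟨A, hA.1⟩
      have hAU : A' ≤ U := fun y hy => (i₁.le (hAO hy)).1
      let p : ι := ⟨(A', ⟨c⟩), hA.2, hAU, fun y hy => by
        show TopCat.Presheaf.germ (fs JX U).obj A' y hy (c • (fs JX U).obj.map (homOfLE hAU).op (gen U)) ∈ T y
        have h1 := congrArg (TopCat.Presheaf.germ (fs JX U).obj O y (hAO hy)) he
        rw [TopCat.Presheaf.germ_res_apply (fs JX U).obj i₁ y (hAO hy) _,
          TopCat.Presheaf.germ_res_apply (fs JX U).obj i₂ y (hAO hy) _, map_zsmul,
          TopCat.Presheaf.germ_res_apply (fs JX U).obj (homOfLE inf_le_left) y (i₁.le (hAO hy)) (gen U)] at h1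
        rw [map_zsmul, TopCat.Presheaf.germ_res_apply (fs JX U).obj (homOfLE hAU) y hy (gen U), h1]
        exact hb y _⟩
      have hmem := germ_mem_gens V (mult V hle k) (Set.mem_univ p) (x := x) (show x ∈ V p from hxA)
      rw [germ_mult] at hmem
      exact hmem
    · rintro _ ⟨p, -, h, rfl⟩
      exact p.2.2.choose_spec x h
  rw [e]
  exact cl_union V (mult V hle k) fun t => cl_gens_mult hd t.card U ι V hle k hU (fun p => p.2.1) t le_rfl

theorem cl_all (hd : ∀ (U : Opens X), IsCompact (U : Set X) → Cl d (fs JX U)) (F : CohTop.Ab X) : Cl d F := by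
  let ι : Type u := Σ W : {W : Opens X // IsCompact (W : Set X)}, (F.obj.obj (op W.1) : Type u)
  let V : ι → Opens X := fun p => p.1.1
  let s : ∀ p : ι, F.obj.obj (op (V p)) := fun p => p.2
  have hfin : ∀ t : Finset ι, Cl d (sub (gens V s (t : Set ι))) := fun t => by
    induction t using Finset.induction_on with
    | empty =>
      refine Cl.of_isZero (isZero_of_stalks fun x => subsingleton_of_forall_eq 0 fun z => injective_stF_incl _ x ?_)
      have h := mem_of_stalk x z
      rw [gens, show {w | ∃ j ∈ ((∅ : Finset ι) : Set ι), ∃ h : x ∈ V j, TopCat.Presheaf.germ F.obj (V j) x h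
        (s j) = w} = ∅ by simp, AddSubgroup.closure_empty, AddSubgroup.mem_bot] at h
      rw [map_zero]
      exact h
    | insert a t _ ih =>
      rw [Finset.coe_insert]
      exact cl_insert V s _ a (hd _ a.1.2) ih
        (cl_sub_free hd a.1.2 _ (isOpenFam_comap _ (isOpenFam_gens V s _)))
  haveI : IsIso (incl (gens V s Set.univ)) := isIso_incl (isOpenFam_gens V s _) fun x => eq_top_iff.2 fun z _ => by
    obtain ⟨W, hW, b, rfl⟩ := TopCat.Presheaf.exists_germ_eq F.obj z
    obtain ⟨A, hA, hxA, hAW⟩ := PrespectralSpace.isTopologicalBasis.exists_subset_of_mem_open hW W.isOpen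
    let A' : Opens X := ⟨A, hA.1⟩
    have hle' : A' ≤ W := hAW
    have h := germ_mem_gens V s (Set.mem_univ (⟨⟨A', hA.2⟩, F.obj.map (homOfLE hle').op b⟩ : ι)) (x := x)
      (show x ∈ A' from hxA)
    rw [← TopCat.Presheaf.germ_res_apply F.obj (homOfLE hle') x hxA b]
    exact h
  exact Cl.of_iso (asIso (incl (gens V s Set.univ))) (cl_union V s hfin)

end Main

end Groth.L10.ExtZero
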