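import Groth.Agent.L10.SiteCoh
import Groth.Prelude.Def_CohTop
import Mathlib.Topology.Sheaves.Sheafify

/-!
The stalks of the free abelian sheaf on an open.
-/

set_option autoImplicit false
set_option linter.style.haveILetI false
set_option backward.defeqAttrib.useBackward true
set_option backward.isDefEq.respectTransparency false
universe u

open CategoryTheory CategoryTheory.Limits Opposite TopologicalSpace

noncomputable section

namespace Groth.L10.FreeStalk

open Groth.L10.SiteCoh (fp fs fsMap secEquiv)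

variable {X : TopCat.{u}} (U : Opens X)

local notation "JX" => Opens.grothendieckTopology X

/-- The tautological section of the free sheaf on `U`. -/
def gen : (fs JX U).obj.obj (op U) := secEquiv JX U (fs JX U) (𝟙 _)

theorem gen_eq : gen U = (CategoryTheory.toSheafify JX (fp U)).app (op U) (FreeAbelianGroup.of (𝟙 U)) := by
  simp [gen, secEquiv, Adjunction.homAddEquiv_apply, Groth.L10.SiteCoh.fpEquiv]
  rfl

/-- A map out of the free sheaf sends the tautological section to the corresponding section. -/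
theorem app_gen {F : CohTop.Ab X} (φ : fs JX U ⟶ F) : φ.hom.app (op U) (gen U) = secEquiv JX U F φ := by
  rw [gen, ← Groth.L10.SiteCoh.secEquiv_comp, Category.id_comp]

/-- The tautological germ. -/
def γ (x : X) (hx : x ∈ U) : CohTop.stalk (fs JX U) x :=
  TopCat.Presheaf.germ (fs JX U).obj U x hx (gen U)

/-- The stalk of the presheaf maps isomorphically. -/
abbrev unitStalk (x : X) :=
  (TopCat.Presheaf.stalkFunctor AddCommGrpCat.{u} x).map (CategoryTheory.toSheafify JX (fp U))

theorem unitStalk_germ (x : X) {W : Opens X} (hW : x ∈ W) (a : (fp U).obj (op W)) :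
    unitStalk U x (TopCat.Presheaf.germ (fp U) W x hW a) =
      TopCat.Presheaf.germ (fs JX U).obj W x hW ((CategoryTheory.toSheafify JX (fp U)).app (op W) a) :=
  TopCat.Presheaf.stalkFunctor_map_germ_apply W x hW _ a

theorem germ_of (x : X) {W : Opens X} (hW : x ∈ W) (f : W ⟶ U) :
    unitStalk U x (TopCat.Presheaf.germ (fp U) W x hW (FreeAbelianGroup.of f)) = γ U x (f.le hW) := by
  have h1 : (fp U).map f.op (FreeAbelianGroup.of (𝟙 U)) = FreeAbelianGroup.of f := by
    change FreeAbelianGroup.map _ (FreeAbelianGroup.of (𝟙 U)) = _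
    rw [FreeAbelianGroup.map_of_apply]
    exact congrArg _ (Category.comp_id f)
  rw [← h1, TopCat.Presheaf.germ_res_apply (fp U) f x hW, unitStalk_germ, γ, gen_eq]

/-- Every element of the stalk is a multiple of the tautological germ. -/
theorem exists_zsmul_γ {x : X} (z : CohTop.stalk (fs JX U) x) :
    z = 0 ∨ ∃ (hx : x ∈ U) (k : ℤ), z = k • γ U x hx := by
  have := TopCat.Presheaf.stalkFunctor_map_unit_toSheafify_isIso x AddCommGrpCat.{u} (fp U)
  obtain ⟨w, rfl⟩ := ((AddCommGrpCat.epi_iff_surjective (unitStalk U x)).1 inferInstance) z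
  obtain ⟨W, hW, a, rfl⟩ := TopCat.Presheaf.exists_germ_eq (fp U) w
  induction a using FreeAbelianGroup.induction_on with
  | zero => left; rw [map_zero, map_zero]
  | of f => exact Or.inr ⟨f.le hW, 1, by rw [one_zsmul, germ_of]⟩
  | neg f h =>
    rcases h with h | ⟨hx, k, h⟩
    · left; rw [map_neg, map_neg, h, neg_zero]
    · exact Or.inr ⟨hx, -k, by rw [map_neg, map_neg, h, neg_zsmul]⟩
  | add a b ha hb =>
    rcases ha with ha | ⟨hx, k, ha⟩
    · rcases hb with hb | ⟨hx, k, hb⟩
      · left; rw [map_add, map_add, ha, hb, add_zero]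
      · exact Or.inr ⟨hx, k, by rw [map_add, map_add, ha, hb, zero_add]⟩
    · rcases hb with hb | ⟨hx', k', hb⟩
      · exact Or.inr ⟨hx, k, by rw [map_add, map_add, ha, hb, add_zero]⟩
      · exact Or.inr ⟨hx, k + k', by rw [map_add, map_add, ha, hb, add_zsmul]⟩

theorem exists_eq_zsmul {x : X} (hx : x ∈ U) (z : CohTop.stalk (fs JX U) x) : ∃ k : ℤ, z = k • γ U x hx := by
  rcases exists_zsmul_γ U z with rfl | ⟨_, k, rfl⟩
  · exact ⟨0, (zero_zsmul _).symm⟩
  · exact ⟨k, rfl⟩

theorem eq_zero_of_notMem {x : X} (hx : x ∉ U) (z : CohTop.stalk (fs JX U) x) : z = 0 :=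
  (exists_zsmul_γ U z).resolve_right fun ⟨h, _⟩ => hx h

/-- The tautological germ has infinite order. -/
theorem zsmul_γ_eq_zero {x : X} (hx : x ∈ U) {k : ℤ} (h : k • γ U x hx = 0) : k = 0 := by
  have := TopCat.Presheaf.stalkFunctor_map_unit_toSheafify_isIso x AddCommGrpCat.{u} (fp U)
  rw [← germ_of U x hx (𝟙 U)] at h
  have h' : k • (TopCat.Presheaf.germ (fp U) U x hx (FreeAbelianGroup.of (𝟙 U))) = 0 :=
    ((AddCommGrpCat.mono_iff_injective (unitStalk U x)).1 inferInstance)
      ((map_zsmul (unitStalk U x).hom _ _).trans (h.trans (map_zero (unitStalk U x).hom).symm))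
  obtain ⟨W, hW, i₁, i₂, he⟩ := TopCat.Presheaf.germ_eq (fp U) x hx hx (k • FreeAbelianGroup.of (𝟙 U)) 0
    ((map_zsmul (TopCat.Presheaf.germ (fp U) U x hx).hom _ _).trans (h'.trans (map_zero _).symm))
  let L : FreeAbelianGroup (W ⟶ U) →+ ℤ := FreeAbelianGroup.lift fun _ => 1
  have he' := congrArg L he
  rw [map_zsmul, map_zero, map_zsmul, map_zero] at he'
  have h1 : L ((fp U).map i₁.op (FreeAbelianGroup.of (𝟙 U))) = 1 := by
    change L (FreeAbelianGroup.map _ (FreeAbelianGroup.of (𝟙 U))) = 1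
    rw [FreeAbelianGroup.map_of_apply]
    exact FreeAbelianGroup.lift_apply_of _ _
  erw [h1] at he'
  simpa using he'

theorem zsmul_γ_inj {x : X} (hx : x ∈ U) {k l : ℤ} (h : k • γ U x hx = l • γ U x hx) : k = l :=
  sub_eq_zero.1 (zsmul_γ_eq_zero U hx (by rw [sub_zsmul, h, add_neg_cancel]))

theorem map_γ {F : CohTop.Ab X} (φ : fs JX U ⟶ F) {x : X} (hx : x ∈ U) :
    (TopCat.Presheaf.stalkFunctor AddCommGrpCat.{u} x).map φ.hom (γ U x hx) =
      TopCat.Presheaf.germ F.obj U x hx (secEquiv JX U F φ) :=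
  (TopCat.Presheaf.stalkFunctor_map_germ_apply U x hx φ.hom (gen U)).trans (by rw [app_gen])

end Groth.L10.FreeStalk
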