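import Groth.Agent.L10.NearCoh
import Groth.Agent.L10.CechCoarse
import Mathlib.Topology.Spectral.ConstructibleTopology

/-!
Subspaces of spectral spaces which are intersections of compact opens: sections extend to neighbourhoods,
restrictions of injective sheaves are acyclic.
-/

set_option autoImplicit false
set_option linter.style.haveILetI false
set_option linter.unusedSectionVars false
set_option backward.defeqAttrib.useBackward true
set_option backward.isDefEq.respectTransparency false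
universe u

open CategoryTheory CategoryTheory.Limits CategoryTheory.Abelian Opposite TopologicalSpace Topology

noncomputable section

namespace Groth.L10.GenClosed

open Groth.L10.Proper

variable {X K : TopCat.{u}}

/-- Sections over the whole space surject to those over compact opens. -/
def QcFlasque (M : CohTop.Ab X) : Prop :=
  ∀ V : Opens X, IsCompact (V : Set X) → Function.Surjective (M.obj.map (homOfLE (le_top : V ≤ ⊤)).op)

section Acyclic

variable [CompactSpace X] [PrespectralSpace X] [QuasiSeparatedSpace X]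

theorem isCompact_iInf_fin : ∀ {n : ℕ} (V : Fin (n + 1) → Opens X), (∀ k, IsCompact (V k : Set X)) →
    IsCompact ((⨅ k, V k : Opens X) : Set X) := by
  intro n
  induction n with
  | zero =>
    intro V h
    rw [show (⨅ k, V k) = V 0 from le_antisymm (iInf_le _ _)
      (le_iInf fun k => Fin.cases le_rfl (fun j => j.elim0) k)]
    exact h 0
  | succ n ih =>
    intro V h
    rw [show (⨅ k, V k) = V 0 ⊓ ⨅ k : Fin (n + 1), V k.succ from
      le_antisymm (le_inf (iInf_le _ _) (le_iInf fun k => iInf_le _ _))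
        (le_iInf (Fin.cases inf_le_left fun k => inf_le_of_right_le (iInf_le _ k))), Opens.coe_inf]
    exact QuasiSeparatedSpace.inter_isCompact _ _ (Opens.isOpen _) (h 0) (Opens.isOpen _) (ih _ fun k => h _)

/-- A sheaf with surjective restrictions to compact opens has no higher cohomology. -/
theorem subsingleton_H_of_qcFlasque (M : CohTop.Ab X) (hM : QcFlasque M) (n : ℕ) :
    Subsingleton (CohTop.H M (n + 1)) := by
  have := Cech.cartan_opens M {U | IsCompact (U : Set X)}
    (fun ι V => Finite ι ∧ ∀ i, IsCompact (V i : Set X)) ?_ ?_ ?_ ⊤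
    (by show IsCompact ((⊤ : Opens X) : Set X); rw [Opens.coe_top]; exact isCompact_univ) n
  · exact (SiteCoh.hEquiv (TopCoh.topTerminal X) M (n + 1)).toEquiv.subsingleton
  · rintro ι V ⟨hι, hV⟩
    refine ⟨?_, fun p a => isCompact_iInf_fin _ fun k => hV _⟩
    show IsCompact ((iSup V : Opens X) : Set X)
    rw [Opens.coe_iSup]
    exact isCompact_iUnion hV
  · intro U hU κ W hW
    have h : ∀ x : (U : Set X), ∃ (k : κ) (A : Opens X), IsCompact (A : Set X) ∧ A ≤ W k ∧ x.1 ∈ A := fun x => by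
      obtain ⟨k, hk⟩ := Opens.mem_iSup.1 (show x.1 ∈ iSup W from hW.symm ▸ x.2)
      obtain ⟨A, hA, hxA, hAW⟩ := PrespectralSpace.isTopologicalBasis.exists_subset_of_mem_open hk (W k).isOpen
      exact ⟨k, ⟨A, hA.1⟩, hA.2, hAW, hxA⟩
    choose k A hA hle hxA using h
    obtain ⟨t, ht⟩ := (show IsCompact (U : Set X) from hU).elim_finite_subcover (fun x => (A x : Set X))
      (fun x => (A x).isOpen) fun x hx => Set.mem_iUnion.2 ⟨⟨x, hx⟩, hxA ⟨x, hx⟩⟩
    refine ⟨t, fun x => A x.1, ⟨inferInstance, fun x => hA _⟩, le_antisymm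
      (iSup_le fun x => (hle x.1).trans ((le_iSup W _).trans_eq hW)) fun x hx => ?_, fun x => ⟨k x.1, hle x.1⟩⟩
    obtain ⟨i, hi, hxi⟩ := Set.mem_iUnion₂.1 (ht hx)
    exact Opens.mem_iSup.2 ⟨⟨i, hi⟩, hxi⟩
  · rintro ι V ⟨hι, hV⟩ p
    refine CechCoarse.exactAt_cech V M (fun κ a => ?_) p
    let g : κ → Set ι := fun k => Set.range (a k).2
    have hd : ∀ k k', g k = g k' → (⨅ i, V ((a k).2 i)) = ⨅ i, V ((a k').2 i) := fun k k' e => by
      rw [← iInf_range (f := (a k).2) (g := V), ← iInf_range (f := (a k').2) (g := V)]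
      change (⨅ i ∈ g k, V i) = ⨅ i ∈ g k', V i
      rw [e]
    have hc : IsCompact ((⨆ k, ⨅ i, V ((a k).2 i) : Opens X) : Set X) := by
      have e : (⨆ k, ⨅ i, V ((a k).2 i)) =
          ⨆ S : Set.range g, ⨅ i, V ((a (Set.rangeSplitting g S)).2 i) :=
        le_antisymm
          (iSup_le fun k => le_iSup_of_le ⟨g k, k, rfl⟩
            (hd _ _ (Set.apply_rangeSplitting g ⟨g k, k, rfl⟩).symm).le)
          (iSup_le fun S => le_iSup (fun k => ⨅ i, V ((a k).2 i)) (Set.rangeSplitting g S))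
      rw [e, Opens.coe_iSup]
      exact isCompact_iUnion fun S => isCompact_iInf_fin _ fun i => hV _
    intro s
    obtain ⟨t, ht⟩ := hM _ hc s
    refine ⟨M.obj.map (homOfLE (le_top : iSup V ≤ ⊤)).op t, ?_⟩
    rw [← ConcreteCategory.comp_apply, ← M.obj.map_comp]
    exact ht

end Acyclic

variable [SpectralSpace X] {j : K ⟶ X}

theorem isOpen_compl_cons {A : Opens X} (hA : IsCompact (A : Set X)) :
    IsOpen[constructibleTopology X] (A : Set X)ᶜ :=
  IsCompact.isOpen_constructibleTopology_of_isClosed (by rwa [compl_compl]) A.isOpen.isClosed_compl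

theorem isOpen_cons {O : Set X} (hO : IsOpen O) : IsOpen[constructibleTopology X] O := by
  refine (@isOpen_iff_forall_mem_open X (constructibleTopology X) _).2 fun x hx => ?_
  obtain ⟨A, hA, hxA, hAO⟩ := PrespectralSpace.isTopologicalBasis.exists_subset_of_mem_open hx hO
  exact ⟨A, hAO, hA.2.isOpen_constructibleTopology_of_isOpen hA.1, hxA⟩

theorem compactSpace_cons : @CompactSpace X (constructibleTopology X) :=
  @Function.Surjective.compactSpace _ _ _ (constructibleTopology X) _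
    (WithTopology.continuous_ofTopology (constructibleTopology X)) _
    (WithTopology.ofTopology_surjective _)

theorem isCompact_of_cons {S : Set X} (hS : IsClosed[constructibleTopology X] S) : IsCompact S := by
  have h : @IsCompact X (constructibleTopology X) S :=
    @IsClosed.isCompact X (constructibleTopology X) _ compactSpace_cons hS
  have hid : @Continuous X X (constructibleTopology X) _ id := continuous_def.2 fun O hO => isOpen_cons hO
  have := @IsCompact.image X X (constructibleTopology X) _ S id h hid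
  rwa [Set.image_id] at this

theorem exists_finset_inf {ι : Type*} (U : ι → Opens X) (hU : ∀ i, IsCompact (U i : Set X)) (t : Finset ι) :
    IsCompact ((t.inf U : Opens X) : Set X) ∧ ∀ x, x ∈ t.inf U ↔ ∀ i ∈ t, x ∈ U i := by
  classical
  induction t using Finset.induction_on with
  | empty =>
    refine ⟨?_, fun x => ⟨fun _ _ hi => by simp at hi, fun _ => trivial⟩⟩
    rw [Finset.inf_empty, Opens.coe_top]
    exact isCompact_univ
  | insert a s _ ih =>
    rw [Finset.inf_insert]
    refine ⟨?_, fun x => ⟨fun h i hi => ?_, fun h => ⟨h a (Finset.mem_insert_self _ _),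
      (ih.2 x).2 fun i hi => h i (Finset.mem_insert_of_mem hi)⟩⟩⟩
    · rw [Opens.coe_inf]
      exact QuasiSeparatedSpace.inter_isCompact _ _ (U a).isOpen (hU a) (Opens.isOpen _) ih.1
    · rcases Finset.mem_insert.1 hi with rfl | hi
      · exact h.1
      · exact (ih.2 x).1 h.2 i hi

variable (hR : ∀ x, x ∉ Set.range j → ∃ U : Opens X, IsCompact (U : Set X) ∧ Set.range j ⊆ U ∧ x ∉ U)

include hR in
/-- A constructibly closed set disjoint from the subspace is disjoint from a compact open neighbourhood. -/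
theorem exists_nbhd_disjoint {C : Set X} (hC : IsClosed[constructibleTopology X] C)
    (hd : ∀ k, j k ∉ C) : ∃ U : Opens X, IsCompact (U : Set X) ∧ Set.range j ⊆ U ∧ ∀ x ∈ U, x ∉ C := by
  have h : ∀ c : C, ∃ U : Opens X, IsCompact (U : Set X) ∧ Set.range j ⊆ U ∧ c.1 ∉ U := fun c =>
    hR c.1 fun ⟨k, hk⟩ => hd k (hk ▸ c.2)
  choose U hU hjU hcU using h
  obtain ⟨t, ht⟩ := @IsCompact.elim_finite_subcover X (constructibleTopology X) _ _
    (@IsClosed.isCompact X (constructibleTopology X) _ compactSpace_cons hC) (fun c => (U c : Set X)ᶜ)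
    (fun c => isOpen_compl_cons (hU c)) (fun x hx => Set.mem_iUnion.2 ⟨⟨x, hx⟩, hcU ⟨x, hx⟩⟩)
  obtain ⟨h1, h2⟩ := exists_finset_inf U hU t
  refine ⟨t.inf U, h1, ?_, fun x hx hxC => ?_⟩
  · rintro _ ⟨k, rfl⟩
    exact (h2 _).2 fun c _ => hjU c ⟨k, rfl⟩
  · obtain ⟨c, hc, hxc⟩ := Set.mem_iUnion₂.1 (ht hxC)
    exact hxc ((h2 x).1 hx c hc)

include hR in
theorem isClosed_range_cons : IsClosed[constructibleTopology X] (Set.range j) := by
  rw [← @isOpen_compl_iff X]
  refine (@isOpen_iff_forall_mem_open X (constructibleTopology X) _).2 fun x hx => ?_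
  obtain ⟨U, hU, hjU, hxU⟩ := hR x hx
  exact ⟨(U : Set X)ᶜ, Set.compl_subset_compl.2 hjU, isOpen_compl_cons hU, hxU⟩

variable (hj : IsInducing j)

include hR hj in
theorem isCompact_trace {A : Opens X} (hA : IsCompact (A : Set X)) :
    IsCompact ((Opens.map j).obj A : Set K) := by
  refine hj.isCompact_iff.2 ?_
  rw [show j '' ((Opens.map j).obj A : Set K) = (A : Set X) ∩ Set.range j from Set.image_preimage_eq_inter_range]
  refine isCompact_of_cons (@IsClosed.inter X _ _ (constructibleTopology X) ?_ (isClosed_range_cons hR))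
  rw [← @isOpen_compl_iff X (A : Set X) (constructibleTopology X)]
  exact isOpen_compl_cons hA

include hR hj in
theorem compactSpace_sub : CompactSpace K := by
  refine ⟨?_⟩
  have := isCompact_trace hR hj (A := ⊤) (by rw [Opens.coe_top]; exact isCompact_univ)
  simpa using this

include hj in
theorem exists_trace {W : Opens K} {k : K} (hk : k ∈ W) :
    ∃ A : Opens X, IsCompact (A : Set X) ∧ j k ∈ A ∧ (Opens.map j).obj A ≤ W := by
  obtain ⟨O, hO, e⟩ := hj.isOpen_iff.1 W.isOpen
  have hk' : k ∈ j ⁻¹' O := e.symm ▸ hk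
  obtain ⟨A, hA, hkA, hAO⟩ :=
    (PrespectralSpace.isTopologicalBasis (X := X)).exists_subset_of_mem_open (a := j k) hk' hO
  exact ⟨⟨A, hA.1⟩, hA.2, hkA, fun q hq => show q ∈ (W : Set K) from e ▸ hAO hq⟩

include hR hj in
theorem prespectralSpace_sub : PrespectralSpace K where
  isTopologicalBasis := isTopologicalBasis_of_isOpen_of_nhds (fun _ h => h.1) fun k W hk hW => by
    obtain ⟨A, hA, hkA, hle⟩ := exists_trace hj (W := ⟨W, hW⟩) (k := k) hk
    exact ⟨_, ⟨((Opens.map j).obj A).isOpen, isCompact_trace hR hj hA⟩, hkA, hle⟩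

include hj in
theorem exists_compact_eq {V : Opens K} (hV : IsCompact (V : Set K)) :
    ∃ A : Opens X, IsCompact (A : Set X) ∧ (Opens.map j).obj A = V := by
  have h : ∀ k : (V : Set K), ∃ A : Opens X, IsCompact (A : Set X) ∧ j k.1 ∈ A ∧ (Opens.map j).obj A ≤ V :=
    fun k => exists_trace hj k.2
  choose A hA hkA hle using h
  obtain ⟨t, ht⟩ := hV.elim_finite_subcover (fun k => ((Opens.map j).obj (A k) : Set K))
    (fun k => ((Opens.map j).obj (A k)).isOpen) (fun k hk => Set.mem_iUnion.2 ⟨⟨k, hk⟩, hkA ⟨k, hk⟩⟩)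
  refine ⟨⨆ k : t, A k.1, ?_, le_antisymm (fun q hq => ?_) fun q hq => ?_⟩
  · rw [Opens.coe_iSup]
    exact isCompact_iUnion fun k => hA k.1
  · obtain ⟨k, hk⟩ := Opens.mem_iSup.1 (show j q ∈ ⨆ k : t, A k.1 from hq)
    exact hle k.1 hk
  · obtain ⟨k, hk, hq'⟩ := Set.mem_iUnion₂.1 (ht hq)
    exact Opens.mem_iSup.2 ⟨⟨k, hk⟩, hq'⟩

include hR hj in
theorem quasiSeparatedSpace_sub : QuasiSeparatedSpace K where
  inter_isCompact S T hS hSc hT hTc := by
    obtain ⟨A, hA, eA⟩ := exists_compact_eq hj (V := ⟨S, hS⟩) hSc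
    obtain ⟨B, hB, eB⟩ := exists_compact_eq hj (V := ⟨T, hT⟩) hTc
    have h := isCompact_trace hR hj (A := A ⊓ B)
      (by rw [Opens.coe_inf]; exact QuasiSeparatedSpace.inter_isCompact _ _ A.isOpen hA B.isOpen hB)
    rw [show ((Opens.map j).obj (A ⊓ B) : Set K) = S ∩ T from
      congrArg₂ (fun P Q : Opens K => (P : Set K) ∩ Q) eA eB] at h
    exact h

variable {G : CohTop.Ab X} {G' : CohTop.Ab K} {u : G ⟶ (CohTop.push j).obj G'} (hu : IsPullUnit j u)

include hR hj hu in
/-- Sections on compact opens of the subspace extend to neighbourhoods. -/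
theorem exists_lift {V : Opens K} (hV : IsCompact (V : Set K)) (w : Sect G' V) : LiftsOn u w (V : Set K) := by
  let P : Set K → Prop := fun s => ∃ (A : Opens X) (_ : IsCompact (A : Set X)) (t : Sect G A), s ⊆ j ⁻¹' A ∧
    ∀ (k : K) (hk : j k ∈ A), ∃ hV : k ∈ V, germ G' k hk (pl u A t) = germ G' k hV w
  suffices h : P V by
    obtain ⟨A, -, t, hs, h⟩ := h
    exact ⟨A, t, fun k hk => ⟨hs hk, h k (hs hk)⟩⟩
  refine hV.induction_on (p := P) ⟨⊥, by rw [Opens.coe_bot]; exact isCompact_empty, 0, fun _ h => h.elim,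
    fun _ h => h.elim⟩ (fun s s' hss ⟨A, hA, t, hs, h⟩ => ⟨A, hA, t, hss.trans hs, h⟩) ?_ ?_
  · rintro s s' ⟨A₁, hA₁, t₁, hs₁, h₁⟩ ⟨A₂, hA₂, t₂, hs₂, h₂⟩
    obtain ⟨N, hN, hN0, hNmem⟩ := exists_zeroLocus G
      (rs G (inf_le_left : A₁ ⊓ A₂ ≤ A₁) t₁ - rs G (inf_le_right : A₁ ⊓ A₂ ≤ A₂) t₂)
    have hC : IsClosed[constructibleTopology X] ((A₁ ⊓ A₂ : Opens X) \ (N : Set X) : Set X) := by
      have h12 : IsCompact ((A₁ ⊓ A₂ : Opens X) : Set X) := by
        rw [Opens.coe_inf]; exact QuasiSeparatedSpace.inter_isCompact _ _ A₁.isOpen hA₁ A₂.isOpen hA₂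
      rw [← @isOpen_compl_iff X, Set.sdiff_eq, Set.compl_inter, compl_compl]
      exact @IsOpen.union X _ _ (constructibleTopology X) (isOpen_compl_cons h12) (isOpen_cons N.isOpen)
    obtain ⟨U, hU, hjU, hUC⟩ := exists_nbhd_disjoint hR hC fun k hk => by
      obtain ⟨_, e₁⟩ := h₁ k hk.1.1
      obtain ⟨_, e₂⟩ := h₂ k hk.1.2
      refine hk.2 (hNmem _ hk.1 ?_)
      rw [germ_sub, sub_eq_zero]
      exact (germ_rs G inf_le_left _ hk.1 t₁).trans
        ((germ_eq_of_pl hu t₁ t₂ k hk.1.1 hk.1.2 (e₁.trans e₂.symm)).trans (germ_rs G inf_le_right _ hk.1 t₂).symm)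
    let B₁ := A₁ ⊓ U
    let B₂ := A₂ ⊓ U
    obtain ⟨t, ht₁, ht₂⟩ := exists_glue G (rs G (inf_le_left : B₁ ≤ A₁) t₁) (rs G (inf_le_left : B₂ ≤ A₂) t₂)
      (fun x hx₁ hx₂ => by
        have hxN : x ∈ N := by
          by_contra hn
          exact hUC x hx₁.2 ⟨⟨hx₁.1, hx₂.1⟩, hn⟩
        rw [germ_rs, germ_rs]
        have := congrArg (germ G x hxN) hN0
        rw [germ_rs, germ_zero, germ_sub, sub_eq_zero] at this
        rwa [germ_rs, germ_rs] at this)
    refine ⟨B₁ ⊔ B₂, ?_, t, ?_, fun k hk => ?_⟩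
    · rw [Opens.coe_sup, Opens.coe_inf, Opens.coe_inf]
      exact (QuasiSeparatedSpace.inter_isCompact _ _ A₁.isOpen hA₁ U.isOpen hU).union
        (QuasiSeparatedSpace.inter_isCompact _ _ A₂.isOpen hA₂ U.isOpen hU)
    · rintro k (hk | hk)
      · exact Or.inl ⟨hs₁ hk, hjU ⟨k, rfl⟩⟩
      · exact Or.inr ⟨hs₂ hk, hjU ⟨k, rfl⟩⟩
    · rcases hk with hk' | hk'
      · obtain ⟨hV', e⟩ := h₁ k hk'.1
        exact ⟨hV', (germ_pl u t k _).symm.trans
          ((congrArg _ ((ht₁ _ hk').trans (germ_rs G _ _ hk' t₁))).trans ((germ_pl u t₁ k _).trans e))⟩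
      · obtain ⟨hV', e⟩ := h₂ k hk'.1
        exact ⟨hV', (germ_pl u t k _).symm.trans
          ((congrArg _ ((ht₂ _ hk').trans (germ_rs G _ _ hk' t₂))).trans ((germ_pl u t₂ k _).trans e))⟩
  · intro a ha
    obtain ⟨z, hz⟩ := (hu a).2 (germ G' a ha w)
    obtain ⟨O, hO, t, rfl⟩ := exists_germ G (j a) z
    rw [germ_pl] at hz
    obtain ⟨W, haW, h₁, h₂, e⟩ := Proper.exists_germ_eq G' a hO ha _ _ hz
    obtain ⟨A, hA, haA, hle⟩ := exists_trace hj haW
    obtain ⟨B, hB, haB, hBle⟩ :=
      PrespectralSpace.isTopologicalBasis.exists_subset_of_mem_open (show j a ∈ A ⊓ O from ⟨haA, hO⟩) (A ⊓ O).isOpen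
    let B' : Opens X := ⟨B, hB.1⟩
    have hBO : B' ≤ O := fun x hx => (hBle hx).2
    refine ⟨((Opens.map j).obj B' : Set K), nhdsWithin_le_nhds (((Opens.map j).obj B').isOpen.mem_nhds haB), B',
      hB.2, rs G hBO t, fun _ hk => hk, fun k hk => ?_⟩
    have hkW : k ∈ W := hle (hBle hk).1
    refine ⟨h₂ hkW, ?_⟩
    refine (germ_pl u (rs G hBO t) k hk).symm.trans ((congrArg _ (germ_rs G hBO _ hk t)).trans ?_)
    exact (germ_pl u t k (hBO hk)).trans (e k hkW)

include hR hj hu in
theorem qcFlasque_pull [TopCat.Sheaf.IsFlasque G] : QcFlasque G' := fun V hV w => by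
  obtain ⟨O, t, h⟩ := exists_lift hR hj hu hV w
  obtain ⟨s, rfl⟩ := exists_top_of_flasque G t
  refine ⟨pl u ⊤ s, sect_ext _ _ _ fun k hk => ?_⟩
  obtain ⟨hO, _, e⟩ := h k hk
  refine (germ_rs G' le_top k hk _).trans (Eq.trans ?_ e)
  exact (germ_pl u s k trivial).symm.trans
    ((congrArg _ (germ_rs G le_top _ hO s).symm).trans (germ_pl u _ k hO))

include hR hj in
theorem exists_lift_top (G : CohTop.Ab X) (w : Sect ((CohTop.pull j).obj G) ⊤) :
    LiftsOn ((TopCat.Sheaf.pullbackPushforwardAdjunction AddCommGrpCat.{u} j).unit.app G) w Set.univ := by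
  haveI := compactSpace_sub hR hj
  have h := exists_lift hR hj (isPullUnit_unit j G) (V := ⊤) (by rw [Opens.coe_top]; exact isCompact_univ) w
  rwa [Opens.coe_top] at h

include hR hj in
theorem subsingleton_H_pull (Q : CohTop.Ab X) (hQ : Injective Q) (n : ℕ) :
    Subsingleton (CohTop.H ((CohTop.pull j).obj Q) (n + 1)) := by
  haveI := compactSpace_sub hR hj
  haveI := prespectralSpace_sub hR hj
  haveI := quasiSeparatedSpace_sub hR hj
  haveI := TopCoh.isFlasque_of_injective Q
  exact subsingleton_H_of_qcFlasque _ (qcFlasque_pull (G := Q) hR hj (isPullUnit_unit j Q)) n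

include hR hj in
theorem isCompact_range : IsCompact (Set.range j) := isCompact_of_cons (isClosed_range_cons hR)

end Groth.L10.GenClosed
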