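import Groth.Agent.L10.Spectral.FreeStalk
import Groth.Agent.L21.RR.TopVanish
import Mathlib.Topology.Sheaves.SheafCondition.UniqueGluing

/-!
Subsheaves of abelian sheaves given by conditions on germs.
-/

set_option autoImplicit false
set_option linter.style.haveILetI false
set_option backward.defeqAttrib.useBackward true
set_option backward.isDefEq.respectTransparency false
universe u

open CategoryTheory CategoryTheory.Limits Opposite TopologicalSpace

noncomputable section

namespace Groth.L10.SubSheaf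

open Groth.L21.RR.Top (stF)

variable {X : TopCat.{u}} {F : CohTop.Ab X} (S : ∀ x : X, AddSubgroup (CohTop.stalk F x))

/-- The sections with germs in the given subgroups. -/
def secs (W : Opens X) : AddSubgroup (F.obj.obj (op W)) where
  carrier := {s | ∀ x (hx : x ∈ W), TopCat.Presheaf.germ F.obj W x hx s ∈ S x}
  zero_mem' := fun x hx => by rw [map_zero]; exact zero_mem _
  add_mem' := fun ha hb x hx => by rw [map_add]; exact add_mem (ha x hx) (hb x hx)
  neg_mem' := fun ha x hx => by rw [map_neg]; exact neg_mem (ha x hx)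

/-- Restriction. -/
def secsRes {W W' : (Opens X)ᵒᵖ} (i : W ⟶ W') : secs S W.unop →+ secs S W'.unop :=
  ((F.obj.map i).hom.comp (secs S W.unop).subtype).codRestrict (secs S W'.unop) fun s x hx => by
    show TopCat.Presheaf.germ F.obj W'.unop x hx (F.obj.map i s.1) ∈ S x
    rw [TopCat.Presheaf.germ_res_apply' F.obj i x hx]
    exact s.2 x _

/-- The subpresheaf. -/
def subPre : TopCat.Presheaf AddCommGrpCat.{u} X where
  obj W := AddCommGrpCat.of (secs S W.unop)
  map i := AddCommGrpCat.ofHom (secsRes S i)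
  map_id W := by
    ext s
    exact congr($(F.obj.map_id W) (s : secs S W.unop).1)
  map_comp {U V W} i j := by
    ext s
    exact congr($(F.obj.map_comp i j) (s : secs S U.unop).1)

theorem isSheaf_subPre : TopCat.Presheaf.IsSheaf (subPre S) := by
  rw [TopCat.Presheaf.isSheaf_iff_isSheafUniqueGluing]
  intro ι U sf hsf
  let sf' : ∀ i, F.obj.obj (op (U i)) := fun i => (show secs S (U i) from sf i).1
  have hc : TopCat.Presheaf.IsCompatible F.obj U sf' := fun i j =>
    congrArg (fun s : secs S (U i ⊓ U j) => s.1) (hsf i j)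
  obtain ⟨g, hg, huniq⟩ := TopCat.Sheaf.existsUnique_gluing F U sf' hc
  refine ⟨(⟨g, fun x hx => ?_⟩ : secs S (iSup U)), fun i => Subtype.ext (hg i), fun g' hg' => Subtype.ext ?_⟩
  · obtain ⟨i, hi⟩ := Opens.mem_iSup.1 hx
    rw [← TopCat.Presheaf.germ_res_apply F.obj (Opens.leSupr U i) x hi g, hg i]
    exact (show secs S (U i) from sf i).2 x hi
  · exact huniq _ fun i => congrArg (fun s : secs S (U i) => s.1) (hg' i)

/-- The subsheaf. -/
def sub : CohTop.Ab X := ⟨subPre S, isSheaf_subPre S⟩

/-- The inclusion. -/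
def incl : sub S ⟶ F :=
  ⟨{ app := fun W => AddCommGrpCat.ofHom (secs S W.unop).subtype }⟩

instance : Mono (incl S) := by
  have : Mono ((sheafToPresheaf _ AddCommGrpCat.{u}).map (incl S)) :=
    (NatTrans.mono_iff_mono_app _).2 fun W => (AddCommGrpCat.mono_iff_injective _).2 Subtype.val_injective
  exact (sheafToPresheaf _ AddCommGrpCat.{u}).mono_of_mono_map this

theorem injective_stF_incl (x : X) : Function.Injective ((stF x).map (incl S)) :=
  (AddCommGrpCat.mono_iff_injective _).1 inferInstance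

variable {S}

/-- The inclusion of subsheaves. -/
def subMap {S' : ∀ x : X, AddSubgroup (CohTop.stalk F x)} (h : ∀ x, S x ≤ S' x) : sub S ⟶ sub S' :=
  ⟨{ app := fun W => AddCommGrpCat.ofHom ((secs S W.unop).subtype.codRestrict (secs S' W.unop)
      fun s x hx => h x (s.2 x hx)) }⟩

theorem subMap_incl {S' : ∀ x : X, AddSubgroup (CohTop.stalk F x)} (h : ∀ x, S x ≤ S' x) :
    subMap h ≫ incl S' = incl S := rfl

theorem mem_of_stalk (x : X) (z : (stF x).obj (sub S)) : (stF x).map (incl S) z ∈ S x := by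
  obtain ⟨W, hW, s, rfl⟩ := TopCat.Presheaf.exists_germ_eq (sub S).obj z
  erw [TopCat.Presheaf.stalkFunctor_map_germ_apply W x hW (incl S).hom s]
  exact (show secs S W from s).2 x hW

variable (S) in
/-- Every element of the subgroups extends to a section of the subsheaf. -/
def IsOpenFam : Prop :=
  ∀ (x : X) (z : CohTop.stalk F x), z ∈ S x → ∃ (W : Opens X) (hW : x ∈ W) (s : F.obj.obj (op W)),
    s ∈ secs S W ∧ TopCat.Presheaf.germ F.obj W x hW s = z

theorem IsOpenFam.exists_stalk (h : IsOpenFam S) {x : X} {z : CohTop.stalk F x} (hz : z ∈ S x) :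
    ∃ w : (stF x).obj (sub S), (stF x).map (incl S) w = z := by
  obtain ⟨W, hW, s, hs, rfl⟩ := h x z hz
  exact ⟨TopCat.Presheaf.germ (sub S).obj W x hW (⟨s, hs⟩ : secs S W),
    TopCat.Presheaf.stalkFunctor_map_germ_apply W x hW (incl S).hom _⟩

section Gens

variable {ι : Type u} (V : ι → Opens X) (s : ∀ i, F.obj.obj (op (V i))) (t : Set ι)

/-- The subgroups generated by the germs of some sections. -/
def gens (x : X) : AddSubgroup (CohTop.stalk F x) :=
  AddSubgroup.closure {z | ∃ j ∈ t, ∃ h : x ∈ V j, TopCat.Presheaf.germ F.obj (V j) x h (s j) = z}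

variable {t} in
theorem germ_mem_gens {j : ι} (hj : j ∈ t) {x : X} (h : x ∈ V j) :
    TopCat.Presheaf.germ F.obj (V j) x h (s j) ∈ gens V s t x :=
  AddSubgroup.subset_closure ⟨j, hj, h, rfl⟩

variable {t} in
theorem gens_mono {t' : Set ι} (h : t ⊆ t') (x : X) : gens V s t x ≤ gens V s t' x :=
  AddSubgroup.closure_mono fun _ ⟨j, hj, hx⟩ => ⟨j, h hj, hx⟩

theorem isOpenFam_gens : IsOpenFam (gens V s t) := by
  intro x z hz
  unfold gens at hz
  induction hz using AddSubgroup.closure_induction with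
  | mem z hz =>
    obtain ⟨j, hj, h, rfl⟩ := hz
    exact ⟨V j, h, s j, fun y hy => germ_mem_gens V s hj hy, rfl⟩
  | zero => exact ⟨⊤, trivial, 0, zero_mem _, map_zero _⟩
  | add a b _ _ ha hb =>
    obtain ⟨W, hW, a', ha', rfl⟩ := ha
    obtain ⟨W', hW', b', hb', rfl⟩ := hb
    refine ⟨W ⊓ W', ⟨hW, hW'⟩, F.obj.map (homOfLE inf_le_left).op a' + F.obj.map (homOfLE inf_le_right).op b',
      add_mem (fun y hy => ?_) (fun y hy => ?_), ?_⟩
    · rw [TopCat.Presheaf.germ_res_apply F.obj (homOfLE inf_le_left) y hy a']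
      exact ha' y hy.1
    · rw [TopCat.Presheaf.germ_res_apply F.obj (homOfLE inf_le_right) y hy b']
      exact hb' y hy.2
    · rw [map_add, TopCat.Presheaf.germ_res_apply F.obj (homOfLE inf_le_left) x ⟨hW, hW'⟩ a',
        TopCat.Presheaf.germ_res_apply F.obj (homOfLE inf_le_right) x ⟨hW, hW'⟩ b']
  | neg a _ ha =>
    obtain ⟨W, hW, a', ha', rfl⟩ := ha
    exact ⟨W, hW, -a', neg_mem ha', map_neg _ _⟩

end Gens

end Groth.L10.SubSheaf
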